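import Groth.Agent.Curves.K903.NoDer
import Groth.Agent.Curves.K324.NodeDer2
import Groth.Agent.CurvSt.K896.RatComp
import Groth.Agent.CurvesC.DualDeg
import Groth.Agent.Models.H55.IntFib
import Groth.Agent.S2501

/-!
# Derivations of a smooth proper curve which fix `m` points, `2 g - 2 + m > 0`
-/

set_option autoImplicit false
universe u
open CategoryTheory CategoryTheory.Limits AlgebraicGeometry TopologicalSpace IsLocalRing

namespace K316.DerFix

open Groth.Agent Groth.Agent.VarietyA.DegRank K707.Base K707.Deg K707.Slope K707.Semi K703.Stab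
open Groth.Agent.CurvesC.QuotZero

section Count

theorem preimage_singleton {X Y : Scheme.{u}} (i : Y ⟶ X) [IsClosedImmersion i] (y : Y) :
    i ⁻¹' {i y} = {y} := by
  ext z
  constructor
  · intro hz
    exact i.isClosedEmbedding.injective hz
  · rintro rfl
    rfl

variable (k : Type u) [Field k] [IsAlgClosed k] (X : Scheme.{u}) [X.Over (Spec (CommRingCat.of k))]
  [IsProper (X ↘ (Spec (CommRingCat.of k)))]

/-- The number of points of a finite set of closed points is the length of its reduced structure. -/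
theorem finrank_vanishing (S : Set X) (hS : S.Finite) (hcl : ∀ x ∈ S, IsClosed ({x} : Set X)) (h : IsClosed S) :
    Module.finrank k (Coh.HH X (ClSub.quotMod (Scheme.IdealSheafData.vanishingIdeal ⟨S, h⟩)) 0) = S.ncard := by
  have hN : AlgebraicGeometry.IsNoetherian X := Groth.Agent.CurvesC.CurveCoh.noetherianSpace k X
  have hr : Set.range (Scheme.IdealSheafData.vanishingIdeal ⟨S, h⟩ : X.IdealSheafData).subschemeι = S := by
    rw [Scheme.IdealSheafData.range_subschemeι]
    exact Scheme.IdealSheafData.coe_support_vanishingIdeal _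
  have h3 : AlgebraicGeometry.IsReduced (Scheme.IdealSheafData.vanishingIdeal ⟨S, h⟩ : X.IdealSheafData).subscheme :=
    Groth.Agent.Ega1.ReducedSub.isReduced_subscheme_vanishingIdeal _
  generalize (Scheme.IdealSheafData.vanishingIdeal ⟨S, h⟩ : X.IdealSheafData) = I at hr h3 ⊢
  have hemb := I.subschemeι.isClosedEmbedding
  have h1 : Finite I.subscheme := by
    have : Finite (Set.range I.subschemeι) := by
      rw [hr]; exact hS
    exact Finite.of_injective_finite_range hemb.injective
  have h2 : DiscreteTopology I.subscheme := by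
    have : T1Space I.subscheme := by
      constructor
      intro y
      have h4 : I.subschemeι y ∈ S := by rw [← hr]; exact ⟨y, rfl⟩
      have h5 := (hcl _ h4).preimage I.subschemeι.continuous
      rwa [preimage_singleton I.subschemeι y] at h5
    infer_instance
  have hfin := Groth.Agent.CurvesC.TailNum.finite_quotMod k X I 0
  rw [finrank_quot]
  let φ := glob (I.subschemeι ≫ (X ↘ Spec (CommRingCat.of k)))
  have hfin' : @Module.Finite k Γ(I.subscheme, ⊤) _ _ (Module.compHom _ φ) :=
    finite_of_addEquiv φ (addQuot I) (addQuot_smul I)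
  let _ : Algebra k Γ(I.subscheme, ⊤) := φ.toAlgebra
  have hfin'' : Module.Finite k Γ(I.subscheme, ⊤) := hfin'
  have hcard := K896.RatComp.finrank_eq_natCard k Γ(I.subscheme, ⊤)
  refine Eq.trans ?_ (hcard.trans ?_)
  · rfl
  · have hA : IsAffine I.subscheme := inferInstance
    have e1 : I.subscheme ≃ PrimeSpectrum Γ(I.subscheme, ⊤) := I.subscheme.isoSpec.hom.homeomorph.toEquiv
    have e2 : I.subscheme ≃ S :=
      (Equiv.ofInjective _ I.subschemeι.isClosedEmbedding.injective).trans (Equiv.setCongr hr)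
    rw [Nat.card_congr e1.symm, Nat.card_congr e2, Nat.card_coe_set_eq]

end Count

section Deg

/-- The quotient by an ideal has no stalk outside the support. -/
theorem subsingleton_stalk_quot {X : Scheme.{u}} (I : X.IdealSheafData) (x : X) (hx : x ∉ (I.support : Set X)) :
    Subsingleton ((ClSub.quotMod I).presheaf.stalk x) := by
  constructor
  suffices h : ∀ a : (ClSub.quotMod I).presheaf.stalk x, a = 0 by
    intro a b
    rw [h a, h b]
  intro a
  obtain ⟨V, hV, s, rfl⟩ := TopCat.Presheaf.exists_germ_eq (ClSub.quotMod I).presheaf a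
  let U : X.Opens := ⟨(I.support : Set X)ᶜ, I.support.isClosed.isOpen_compl⟩
  have hxU : x ∈ V ⊓ U := ⟨hV, hx⟩
  have hbot : I.subschemeι ⁻¹ᵁ (V ⊓ U) = ⊥ := by
    ext z
    simp only [TopologicalSpace.Opens.coe_bot, Set.mem_empty_iff_false, iff_false]
    intro hz
    have h1 : I.subschemeι z ∈ (I.support : Set X) := by
      rw [← Scheme.IdealSheafData.range_subschemeι]
      exact ⟨z, rfl⟩
    exact hz.2 h1
  have hsub : Subsingleton Γ(ClSub.quotMod I, V ⊓ U) := by
    have h2 : Subsingleton Γ(I.subscheme, I.subschemeι ⁻¹ᵁ (V ⊓ U)) := by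
      rw [hbot]
      infer_instance
    exact h2
  have h3 := TopCat.Presheaf.germ_res_apply (ClSub.quotMod I).presheaf (homOfLE (inf_le_left : V ⊓ U ≤ V)) x hxU s
  rw [← h3]
  have h4 : (ClSub.quotMod I).presheaf.map (homOfLE (inf_le_left : V ⊓ U ≤ V)).op s = 0 :=
    hsub.elim _ _
  rw [h4, map_zero]

variable (k : Type u) [Field k] [IsAlgClosed k] {X : Scheme.{u}} [X.Over (Spec (CommRingCat.of k))]
  [IsProper (X ↘ (Spec (CommRingCat.of k)))] [IsIntegral X]

/-- The ideal of a finite set of closed points is invertible of degree minus the number of points. -/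
theorem inv_vanishing (hcrv : Crv k X) (S : Set X) (hS : S.Finite) (hcl : ∀ x ∈ S, IsClosed ({x} : Set X))
    (h : IsClosed S) :
    PicF.IsInvertible (ClSub.idealMod (Scheme.IdealSheafData.vanishingIdeal ⟨S, h⟩ : X.IdealSheafData)) ∧
      dg k (ClSub.idealMod (Scheme.IdealSheafData.vanishingIdeal ⟨S, h⟩ : X.IdealSheafData)) = - (S.ncard : ℤ) := by
  have hN : AlgebraicGeometry.IsNoetherian X := Groth.Agent.CurvesC.CurveCoh.noetherianSpace k X
  have hdim := hcrv.dim
  have hcard := finrank_vanishing k X S hS hcl h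
  have hsupp : ((Scheme.IdealSheafData.vanishingIdeal ⟨S, h⟩ : X.IdealSheafData).support : Set X) = S :=
    Scheme.IdealSheafData.coe_support_vanishingIdeal _
  generalize (Scheme.IdealSheafData.vanishingIdeal ⟨S, h⟩ : X.IdealSheafData) = I at hcard hsupp ⊢
  have hgen : genericPoint X ∉ (I.support : Set X) := by
    rw [hsupp]
    intro hg
    exact Groth.Agent.Models.H55.IntFib.not_isClosed_genericPoint hdim (hcl _ hg)
  have htor := subsingleton_stalk_quot I _ hgen
  have hO : PicF.IsInvertible (Coh.structureModule X) := Fdesc.LocGen.isInvertible_structureModule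
  have hcI := Groth.Agent.CurvesC.DualDeg.isCoh_idealMod I
  have hcQ := Groth.Agent.CurvesC.DualDeg.isCoh_quotMod I
  have hcO : Coh.IsCoh (Coh.structureModule X) := coh_of_vb (vb_of_inv hO)
  have hSE := Groth.Agent.CurvesC.DualDeg.shortExact_ideal I
  have hrk := rk_add' k _ hSE hcO
  have hdg := dg_add k _ hSE hcI hcO hcQ
  have h1 : rk (ClSub.quotMod I) = 0 := rk_eq_zero_of_subsingleton htor
  have h2 : dg k (ClSub.quotMod I) = S.ncard := by
    rw [dg_eq_euler_of_torsion k htor, euler_of_torsion k hdim hcQ htor, hcard]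
  have h3 : dg k (Coh.structureModule X) = 0 := by
    rw [dg_of_inv hO]
    unfold Curv2.deg
    ring
  have h4 : rk (ClSub.idealMod I) = 1 := by
    have h5 : rk (Coh.structureModule X) = rk (ClSub.idealMod I) + rk (ClSub.quotMod I) := hrk
    rw [rk_of_inv hO, h1] at h5
    omega
  have hmono : Mono (ClSub.idealModι I) := inferInstanceAs (Mono (kernel.ι _))
  have h5 := isFinLocFreeOfRank_of_mono hcrv.pid (ClSub.idealModι I) hcI (vb_of_inv hO)
  refine ⟨inv_iff.1 (by rwa [h4] at h5), ?_⟩
  have h6 : dg k (Coh.structureModule X) = dg k (ClSub.idealMod I) + dg k (ClSub.quotMod I) := hdg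
  omega

end Deg

section Lift

variable {X Y : Scheme.{u}} (f : X ⟶ Y) [QuasiSeparated f]

/-- If a derivation takes values in an ideal, so does the corresponding map from the differentials. -/
theorem exists_lift (D : OmegaSh.Der f (Coh.structureModule X)) (I : X.IdealSheafData)
    (hI : ∀ (U : X.Opens) (s : Γ(X, U)), I.subschemeι.app U (OmegaSh.fnSect X U (D.app U s)) = 0) :
    ∃ β : Omega.sheaf f ⟶ ClSub.idealMod I,
      (OmegaSh.dOmega f).postcomp (β ≫ ClSub.idealModι I).val = D := by
  obtain ⟨α, hα, -⟩ := S5005.result f _ D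
  have h0 : α ≫ ClSub.toSubscheme I = 0 := by
    obtain ⟨γ, -, huniq⟩ := S5005.result f _ ((OmegaSh.dOmega f).postcomp (α ≫ ClSub.toSubscheme I).val)
    rw [huniq (α ≫ ClSub.toSubscheme I) rfl]
    refine (huniq 0 ?_).symm
    refine K583.DerAffine.ext_of_app fun U a => ?_
    have h1 : (OmegaSh.Der.app ((OmegaSh.dOmega f).postcomp (α ≫ ClSub.toSubscheme I).val) U a) =
        I.subschemeι.app U (OmegaSh.fnSect X U (D.app U a)) := by
      rw [← hα]
      rfl
    rw [h1, hI]
    rfl
  refine ⟨kernel.lift _ α h0, ?_⟩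
  have h2 : kernel.lift _ α h0 ≫ ClSub.idealModι I = α := kernel.lift_ι _ _ _
  exact (congrArg (fun γ : Omega.sheaf f ⟶ Coh.structureModule X => (OmegaSh.dOmega f).postcomp γ.val) h2).trans hα

end Lift

section Main

open K324.RDer

attribute [local instance] Curv2.stalkAlgebra

/-- Fixing a point. -/
def Fix {X Y : Scheme.{u}} {f : X ⟶ Y} (D : OmegaSh.Der f (Coh.structureModule X)) (x : X) : Prop :=
  ∀ (W : X.Opens) (hx : x ∈ W) (t : Γ(X, W)),
    X.presheaf.germ W x hx t ∈ maximalIdeal (X.presheaf.stalk x) →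
    X.presheaf.germ W x hx (OmegaSh.fnSect X W (D.app W t)) ∈ maximalIdeal (X.presheaf.stalk x)

/-- At a fixed point all values of the derivation vanish. -/
theorem Fix.germ_mem (k : Type u) [Field k] [IsAlgClosed k] {X : Scheme.{u}} [X.Over (Spec (CommRingCat.of k))]
    [LocallyOfFiniteType (X ↘ (Spec (CommRingCat.of k)))]
    {D : OmegaSh.Der (X ↘ (Spec (CommRingCat.of k))) (Coh.structureModule X)} {x : X} (h : Fix D x)
    (hx : IsClosed ({x} : Set X)) (W : X.Opens) (hxW : x ∈ W) (t : Γ(X, W)) :
    X.presheaf.germ W x hxW (OmegaSh.fnSect X W (D.app W t)) ∈ maximalIdeal (X.presheaf.stalk x) := by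
  have hst : ∀ τ ∈ maximalIdeal (X.presheaf.stalk x), (RD.ofDer D).st x τ ∈ maximalIdeal (X.presheaf.stalk x) := by
    intro τ hτ
    obtain ⟨N, hN, r, rfl⟩ := TopCat.Presheaf.exists_germ_eq X.presheaf τ
    rw [RD.st_germ]
    exact h N hN r hτ
  obtain ⟨a, ha⟩ := K896.RatComp.exists_const k (X ↘ (Spec (CommRingCat.of k))) x hx (X.presheaf.germ W x hxW t)
  have h1 := hst _ ha
  have h2 : X.presheaf.germ ⊤ x trivial (glob (X ↘ (Spec (CommRingCat.of k))) a) =
      algebraMap k (X.presheaf.stalk x) a := rfl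
  rw [map_sub, h2, K324.NodeDer2.st_algebraMap, sub_zero, RD.st_germ] at h1
  exact h1

/-- A derivation of a smooth proper curve of genus `g` which fixes `m` points with `2 g - 2 + m > 0` vanishes. -/
theorem der_eq_zero (k : Type u) [Field k] [IsAlgClosed k] {X : Scheme.{u}} [X.Over (Spec (CommRingCat.of k))]
    [IsProper (X ↘ Spec (CommRingCat.of k))] [Smooth (X ↘ Spec (CommRingCat.of k))] [IsIntegral X]
    (hdim : topologicalKrullDim X = 1) (S : Set X) (hS : S.Finite) (hcl : ∀ x ∈ S, IsClosed ({x} : Set X))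
    (hg : 0 < 2 * (Curv2.genus k X : ℤ) - 2 + S.ncard)
    (D : OmegaSh.Der (X ↘ (Spec (CommRingCat.of k))) (Coh.structureModule X)) (hD : ∀ x ∈ S, Fix D x)
    (U : X.Opens) (s : Γ(X, U)) : D.app U s = 0 := by
  have hgc : GeometricallyConnected (X ↘ Spec (CommRingCat.of k)) := S2501.result _
  have hC := K533.CurveBasic.isSmoothProperCurve (X ↘ Spec (CommRingCat.of k)) hdim
  have hgi := K533.CurveBasic.geometricallyIntegral (X ↘ Spec (CommRingCat.of k))
  have h0 := S1536.result k X
  have hdeg := (S1612.result k X hC h0).2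
  have hcrv := K432.VB.crv_of_regular k X hdim (S1535.result k X)
  have hinv : PicF.IsInvertible (Omega.sheaf (X ↘ Spec (CommRingCat.of k))) :=
    CurvesB.OmegaInv.isInvertible_omega _ hdim
  have hScl : IsClosed S := by
    rw [← Set.biUnion_of_singleton S]
    exact hS.isClosed_biUnion hcl
  obtain ⟨hI1, hI2⟩ := inv_vanishing k hcrv S hS hcl hScl
  have hmem : ∀ (U : X.Opens) (s : Γ(X, U)),
      (Scheme.IdealSheafData.vanishingIdeal ⟨S, hScl⟩ : X.IdealSheafData).subschemeι.app U
        (OmegaSh.fnSect X U (D.app U s)) = 0 := by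
    intro U s
    have hred : AlgebraicGeometry.IsReduced
        (Scheme.IdealSheafData.vanishingIdeal ⟨S, hScl⟩ : X.IdealSheafData).subscheme :=
      Groth.Agent.Ega1.ReducedSub.isReduced_subscheme_vanishingIdeal _
    rw [← basicOpen_eq_bot_iff, ← Scheme.preimage_basicOpen]
    ext z
    simp only [TopologicalSpace.Opens.coe_bot, Set.mem_empty_iff_false, iff_false]
    intro hz
    have h1 : (Scheme.IdealSheafData.vanishingIdeal ⟨S, hScl⟩ : X.IdealSheafData).subschemeι z ∈ S := by
      have h2 : Set.range (Scheme.IdealSheafData.vanishingIdeal ⟨S, hScl⟩ : X.IdealSheafData).subschemeι = S := by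
        rw [Scheme.IdealSheafData.range_subschemeι]
        exact Scheme.IdealSheafData.coe_support_vanishingIdeal _
      exact h2.subset ⟨z, rfl⟩
    have hz' : (Scheme.IdealSheafData.vanishingIdeal ⟨S, hScl⟩ : X.IdealSheafData).subschemeι z ∈
      X.basicOpen (OmegaSh.fnSect X U (D.app U s)) := hz
    clear hz
    generalize (Scheme.IdealSheafData.vanishingIdeal ⟨S, hScl⟩ : X.IdealSheafData).subschemeι z = x at h1 hz'
    have hxU : x ∈ U := X.basicOpen_le _ hz'
    rw [Scheme.mem_basicOpen _ _ _ hxU] at hz'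
    exact Fix.germ_mem k (hD x h1) (hcl x h1) U hxU s hz'
  obtain ⟨β, hβ⟩ := exists_lift (X ↘ Spec (CommRingCat.of k)) D _ hmem
  have hβ0 : β = 0 := by
    by_contra hne
    have h1 := slope_le_of_hom hcrv (ss_of_inv hcrv hinv) (vb_of_inv hinv) hI1 β hne
    rw [rk_of_inv hinv, dg_of_inv hinv, hI2, hdeg] at h1
    push_cast at h1
    omega
  rw [← hβ, hβ0, zero_comp]
  rfl

end Main

end K316.DerFix
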