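import Groth.Agent.Etcore.CurveComp
import Groth.Agent.CurvesC.CompGeom
import Groth.Agent.Sga1.SigmaFinite

/-!
# The normalization of a reduced scheme of finite type over a field, as a coproduct over the components
-/

set_option autoImplicit false
universe u

open CategoryTheory CategoryTheory.Limits AlgebraicGeometry TopologicalSpace Opposite

namespace K316.NormRed

open Groth.Agent Groth.Agent.CurvesC.CompGeom

/-- An isomorphism on the source and the composition gives an isomorphism of restrictions. -/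
theorem isIso_restrict_of {Y X' X : Scheme.{u}} (j : Y ⟶ X') [IsOpenImmersion j] (ν : X' ⟶ X) (W : X.Opens)
    (h : ν ⁻¹ᵁ W ≤ j.opensRange) (hi : IsIso ((j ≫ ν) ∣_ W)) : IsIso (ν ∣_ W) := by
  have hj : IsIso (j ∣_ (ν ⁻¹ᵁ W)) := by
    have h1 : Surjective (j ∣_ (ν ⁻¹ᵁ W)) := by
      constructor
      rintro ⟨y, hy⟩
      obtain ⟨z, hz⟩ := h hy
      refine ⟨⟨z, ?_⟩, Subtype.ext ?_⟩
      · change j z ∈ (ν ⁻¹ᵁ W : X'.Opens)
        rw [hz]; exact hy
      · rw [morphismRestrict_base_coe]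
        exact hz
    exact isIso_of_isOpenImmersion_of_opensRange_eq_top _ (by
      ext y
      simp only [TopologicalSpace.Opens.coe_top, Set.mem_univ, iff_true]
      exact h1.surj y)
  rw [morphismRestrict_comp] at hi
  exact @IsIso.of_isIso_comp_left _ _ _ _ _ (j ∣_ (ν ⁻¹ᵁ W)) (ν ∣_ W) hj hi

/-- Isomorphism over a union of opens. -/
theorem isIso_restrict_iSup {X' X : Scheme.{u}} (ν : X' ⟶ X) {I : Type u} (W : I → X.Opens)
    (h : ∀ i, IsIso (ν ∣_ W i)) : IsIso (ν ∣_ (⨆ i, W i)) := by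
  have h0 : (⨆ i, (⨆ i, W i).ι ⁻¹ᵁ W i) = ⊤ := by
    ext ⟨x, hx⟩
    simp only [TopologicalSpace.Opens.coe_iSup, Set.mem_iUnion, TopologicalSpace.Opens.coe_top, Set.mem_univ,
      iff_true]
    obtain ⟨i, hi⟩ := TopologicalSpace.Opens.mem_iSup.1 hx
    exact ⟨i, hi⟩
  refine (IsZariskiLocalAtTarget.iff_of_iSup_eq_top (P := MorphismProperty.isomorphisms Scheme)
    (fun i => (⨆ i, W i).ι ⁻¹ᵁ W i) h0).2 fun i => ?_
  have h2 : (⨆ i, W i).ι ''ᵁ ((⨆ i, W i).ι ⁻¹ᵁ W i) = W i := by
    ext x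
    constructor
    · rintro ⟨y, hy, rfl⟩
      exact hy
    · intro hx
      exact ⟨⟨x, TopologicalSpace.Opens.mem_iSup.2 ⟨i, hx⟩⟩, hx, rfl⟩
  have h3 := (MorphismProperty.isomorphisms Scheme).arrow_mk_iso_iff
    (morphismRestrictRestrict ν (⨆ i, W i) ((⨆ i, W i).ι ⁻¹ᵁ W i))
  refine h3.2 ?_
  rw [h2]
  exact h i

section

variable {X : Scheme.{u}} [IsNoetherian X] [AlgebraicGeometry.IsReduced X]
  (Y : irreducibleComponents (X : Type u) → Scheme.{u})
  (g : ∀ C, Y C ⟶ (IC X C.1 C.2).subscheme) [∀ C, IsFinite (g C)] [∀ C, Surjective (g C)]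
  [∀ C, IsIntegral (Y C)]

/-- The components mapped to `X`. -/
noncomputable abbrev mp (C : irreducibleComponents (X : Type u)) : Y C ⟶ X := g C ≫ (IC X C.1 C.2).subschemeι

omit [AlgebraicGeometry.IsNoetherian X] [AlgebraicGeometry.IsReduced X] [∀ C, IsFinite (g C)]
  [∀ C, AlgebraicGeometry.IsIntegral (Y C)] in
theorem range_mp (C : irreducibleComponents (X : Type u)) : Set.range (mp Y g C) = C.1 := by
  rw [← range_C X C.1 C.2]
  ext x
  constructor
  · rintro ⟨y, rfl⟩
    exact ⟨g C y, rfl⟩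
  · rintro ⟨z, rfl⟩
    obtain ⟨y, rfl⟩ := (g C).surjective z
    exact ⟨y, rfl⟩

/-- The normalization. -/
noncomputable abbrev nu : (∐ Y) ⟶ X := Sigma.desc (mp Y g)

omit [AlgebraicGeometry.IsReduced X] [∀ C, Surjective (g C)] [∀ C, AlgebraicGeometry.IsIntegral (Y C)] in
theorem isFinite_nu : IsFinite (nu Y g) := by
  have : Finite (irreducibleComponents (X : Type u)) := NoetherianSpace.finite_irreducibleComponents
  exact Sga1.SigmaFinite.isFinite_sigmaDesc _

/-- Coproducts of normal schemes are normal. -/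
theorem isNormal_sigma {I : Type u} (Y : I → Scheme.{u}) (h : ∀ i, Pi1.IsNormalScheme (Y i)) :
    Pi1.IsNormalScheme (∐ Y) := by
  intro x
  obtain ⟨i, y, rfl⟩ := (sigmaOpenCover Y).exists_eq x
  have e : (∐ Y).presheaf.stalk (Sigma.ι Y i y) ≃+* (Y i).presheaf.stalk y :=
    (asIso ((Sigma.ι Y i).stalkMap y)).commRingCatIsoToRingEquiv
  have h1 := (h i y).1
  have h2 := (h i y).2
  have h3 : IsDomain ((∐ Y).presheaf.stalk (Sigma.ι Y i y)) := e.toMulEquiv.isDomain _
  exact ⟨h3, IsIntegrallyClosed.of_equiv e.symm⟩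

/-- The open set over which the normalization is an isomorphism. -/
theorem exists_opens (V : ∀ C : irreducibleComponents (X : Type u), (IC X C.1 C.2).subscheme.Opens)
    (hV : ∀ C, (V C : Set (IC X C.1 C.2).subscheme).Nonempty) (hiso : ∀ C, IsIso (g C ∣_ V C)) :
    ∃ U : X.Opens, Dense (U : Set X) ∧ Dense ((nu Y g ⁻¹ᵁ U : (∐ Y : Scheme.{u}).Opens) : Set (∐ Y : Scheme.{u})) ∧
      IsIso (nu Y g ∣_ U) := by
  have hfin : Finite (irreducibleComponents (X : Type u)) := NoetherianSpace.finite_irreducibleComponents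
  have hcl : ∀ C : irreducibleComponents (X : Type u), IsClosed C.1 :=
    fun C => isClosed_of_mem_irreducibleComponents _ C.2
  let T : irreducibleComponents (X : Type u) → Set X := fun C =>
    (⋃ (D : irreducibleComponents (X : Type u)) (_ : D ≠ C), D.1) ∪
      (IC X C.1 C.2).subschemeι '' (V C : Set (IC X C.1 C.2).subscheme)ᶜ
  have hT : ∀ C, IsClosed (T C) := by
    intro C
    refine IsClosed.union ?_ ((IC X C.1 C.2).subschemeι.isClosedEmbedding.isClosedMap _ (V C).isOpen.isClosed_compl)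
    exact isClosed_iUnion_of_finite fun D => isClosed_iUnion_of_finite fun _ => hcl D
  let W : irreducibleComponents (X : Type u) → X.Opens := fun C => ⟨(T C)ᶜ, (hT C).isOpen_compl⟩
  have hWsub : ∀ C, (W C : Set X) ⊆ C.1 := by
    intro C x hx
    by_cases hij : (⟨irreducibleComponent x, irreducibleComponent_mem_irreducibleComponents x⟩ :
        irreducibleComponents (X : Type u)) = C
    · rw [← hij]
      exact mem_irreducibleComponent
    · exact (hx (Or.inl (Set.mem_iUnion₂.2 ⟨_, hij, mem_irreducibleComponent⟩))).elim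
  have hWV : ∀ C, (IC X C.1 C.2).subschemeι ⁻¹ᵁ W C ≤ V C := by
    intro C z hz
    by_contra h
    exact hz (Or.inr ⟨z, h, rfl⟩)
  have hWiso : ∀ C, IsIso (mp Y g C ∣_ W C) := by
    intro C
    have h1 := hiso C
    have h2 : IsIso (g C ∣_ ((IC X C.1 C.2).subschemeι ⁻¹ᵁ W C)) :=
      Groth.Agent.Etcore.CurveComp.isIso_restrict_of_le (g C) (hWV C)
    have h3 : Surjective ((IC X C.1 C.2).subschemeι ∣_ W C) := by
      constructor
      rintro ⟨x, hx⟩
      have h4 := hWsub C hx
      rw [← range_C X C.1 C.2] at h4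
      obtain ⟨z, rfl⟩ := h4
      exact ⟨⟨z, hx⟩, Subtype.ext (by rw [morphismRestrict_base_coe])⟩
    have h5 : IsClosedImmersion ((IC X C.1 C.2).subschemeι ∣_ W C) := MorphismProperty.of_isPullback
      (isPullback_morphismRestrict (IC X C.1 C.2).subschemeι (W C)).flip inferInstance
    have h6 : IsIso ((IC X C.1 C.2).subschemeι ∣_ W C) := isIso_of_isClosedImmersion_of_surjective _
    rw [morphismRestrict_comp]
    exact IsIso.comp_isIso' h2 h6
  have hgen : ∀ C : irreducibleComponents (X : Type u), mp Y g C (genericPoint (Y C)) ∈ W C := by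
    intro C
    have hcl' : closure {mp Y g C (genericPoint (Y C))} = C.1 := by
      have h1 := (genericPoint_spec (Y C)).image (mp Y g C).continuous
      rw [Set.image_univ] at h1
      have h2 : closure (Set.range (mp Y g C)) = C.1 := by rw [range_mp, (hcl C).closure_eq]
      rw [← h2]
      exact h1
    rintro (h | h)
    · obtain ⟨D, hD, hmem⟩ := Set.mem_iUnion₂.1 h
      have h6 : C.1 ⊆ D.1 := by
        rw [← hcl']
        exact closure_minimal (Set.singleton_subset_iff.2 hmem) (hcl D)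
      have h7 : D.1 ⊆ C.1 := C.2.2 D.2.1 h6
      exact hD (Subtype.ext (h7.antisymm h6))
    · obtain ⟨z, hz, hzz⟩ := h
      have h8 : z = g C (genericPoint (Y C)) := (IC X C.1 C.2).subschemeι.isClosedEmbedding.injective hzz
      have h9 : g C (genericPoint (Y C)) = genericPoint (IC X C.1 C.2).subscheme := by
        have h1 := (genericPoint_spec (Y C)).image (g C).continuous
        rw [Set.image_univ, (g C).surjective.range_eq, closure_univ] at h1
        exact h1.eq (genericPoint_spec _)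
      rw [h8, h9] at hz
      exact hz (((genericPoint_spec (IC X C.1 C.2).subscheme).mem_open_set_iff (V C).isOpen).2
        (by simpa using hV C))
  refine ⟨⨆ C, W C, ?_, ?_, ?_⟩
  · rw [dense_iff_inter_open]
    rintro O hO ⟨x, hx⟩
    obtain ⟨C, hxC⟩ : ∃ C : irreducibleComponents (X : Type u), x ∈ C.1 :=
      ⟨⟨irreducibleComponent x, irreducibleComponent_mem_irreducibleComponents x⟩, mem_irreducibleComponent⟩
    rw [← range_mp Y g C] at hxC
    obtain ⟨y, rfl⟩ := hxC
    have hsp : mp Y g C (genericPoint (Y C)) ⤳ mp Y g C y :=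
      ((genericPoint_spec (Y C)).specializes trivial).map (mp Y g C).continuous
    exact ⟨mp Y g C (genericPoint (Y C)), hsp.mem_open hO hx,
      TopologicalSpace.Opens.mem_iSup.2 ⟨C, hgen C⟩⟩
  · rw [dense_iff_inter_open]
    rintro O hO ⟨x, hx⟩
    obtain ⟨C, y, rfl⟩ := (sigmaOpenCover Y).exists_eq x
    have hsp : Sigma.ι Y C (genericPoint (Y C)) ⤳ Sigma.ι Y C y :=
      ((genericPoint_spec (Y C)).specializes trivial).map (Sigma.ι Y C).continuous
    refine ⟨Sigma.ι Y C (genericPoint (Y C)), hsp.mem_open hO hx, ?_⟩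
    have h1 : nu Y g (Sigma.ι Y C (genericPoint (Y C))) = mp Y g C (genericPoint (Y C)) := by
      rw [← Scheme.Hom.comp_apply, Sigma.ι_desc]
    change nu Y g (Sigma.ι Y C (genericPoint (Y C))) ∈ (⨆ C, W C : X.Opens)
    rw [h1]
    exact TopologicalSpace.Opens.mem_iSup.2 ⟨C, hgen C⟩
  · refine isIso_restrict_iSup _ _ fun C => ?_
    refine isIso_restrict_of (Sigma.ι Y C) _ _ ?_ ?_
    · intro z hz
      obtain ⟨D, y, rfl⟩ := (sigmaOpenCover Y).exists_eq z
      have h1 : nu Y g (Sigma.ι Y D y) = mp Y g D y := by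
        rw [← Scheme.Hom.comp_apply, Sigma.ι_desc]
      have h2 : nu Y g (Sigma.ι Y D y) ∈ W C := hz
      rw [h1] at h2
      have h3 : mp Y g D y ∈ D.1 := by
        rw [← range_mp Y g D]
        exact ⟨y, rfl⟩
      have h4 : D = C := by
        by_contra hne
        exact h2 (Or.inl (Set.mem_iUnion₂.2 ⟨D, hne, h3⟩))
      subst h4
      exact ⟨y, rfl⟩
    · have e : Sigma.ι Y C ≫ nu Y g = mp Y g C := Sigma.ι_desc _ _
      rw [e]
      exact hWiso C

end

/-- The normalization of a reduced scheme of finite type over a field. -/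
theorem exists_normalization (k : Type u) [Field k] {X : Scheme.{u}} (p : X ⟶ Spec (CommRingCat.of k))
    [LocallyOfFiniteType p] [IsNoetherian X] [AlgebraicGeometry.IsReduced X] :
    ∃ (Y : irreducibleComponents (X : Type u) → Scheme.{u})
      (g : ∀ C : irreducibleComponents (X : Type u), Y C ⟶ (IC X C.1 C.2).subscheme),
      (∀ C, IsFinite (g C)) ∧ (∀ C, Surjective (g C)) ∧ (∀ C, IsIntegral (Y C)) ∧
      (∀ C, Pi1.IsNormalScheme (Y C)) ∧ (∀ C, topologicalKrullDim (Y C) = topologicalKrullDim C.1) ∧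
      (∀ C : irreducibleComponents (X : Type u), ∃ V : (IC X C.1 C.2).subscheme.Opens,
        (V : Set (IC X C.1 C.2).subscheme).Nonempty ∧ IsIso (g C ∣_ V)) ∧
      IsFinite (nu Y g) ∧ Pi1.IsNormalScheme (∐ Y) ∧
      ∃ U : X.Opens, Dense (U : Set X) ∧
        Dense ((nu Y g ⁻¹ᵁ U : (∐ Y : Scheme.{u}).Opens) : Set (∐ Y : Scheme.{u})) ∧ IsIso (nu Y g ∣_ U) := by
  choose Y g hg hs hY hn V hd using fun C : irreducibleComponents (X : Type u) =>
    Groth.Agent.Etcore.CurveComp.exists_normalization k (IC X C.1 C.2).subscheme ((IC X C.1 C.2).subschemeι ≫ p)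
  choose V hV hiso using V
  refine ⟨Y, g, hg, hs, hY, hn, fun C => ?_, fun C => ⟨V C, hV C, hiso C⟩, isFinite_nu Y g,
    isNormal_sigma Y hn, exists_opens Y g V hV hiso⟩
  rw [hd C]
  have h9 : topologicalKrullDim (IC X C.1 C.2).subscheme =
      topologicalKrullDim (Set.range (IC X C.1 C.2).subschemeι) :=
    IsHomeomorph.topologicalKrullDim_eq _
      (((IC X C.1 C.2).subschemeι.isClosedEmbedding.isEmbedding.toHomeomorph).isHomeomorph)
  rw [h9, range_C]

end K316.NormRed
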