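import Groth.Agent.Curves.K324.NodeDer2

/-!
# Over a node there are at least two points of the normalization
-/

set_option autoImplicit false
universe u

open CategoryTheory CategoryTheory.Limits AlgebraicGeometry TopologicalSpace Opposite IsLocalRing PowerSeries

namespace K316.NodeFib

open K324.NodeAlg K324.RDer K324.NodeNorm K324.NodeDer2

section Alg

variable {K A : Type u} [Field K] [CommRing A] [IsLocalRing A] [Algebra K A]

/-- The idempotent of the integral closure modulo the maximal ideal, as a fraction `u / s` which does not lie in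
the maximal ideal and whose complement does not either. -/
theorem exists_idem {φ ψ : A →+* K⟦X⟧} (h : IsBranch K φ ψ) :
    ∃ u s c : A, s ∈ nonZeroDivisors A ∧ c ∈ maximalIdeal A ∧ u ^ 2 + s ^ 2 * c = s * u ∧
      (∀ n ∈ maximalIdeal A, u ≠ s * n) ∧ (∀ n ∈ maximalIdeal A, s - u ≠ s * n) := by
  obtain ⟨a, ⟨e, he⟩, ⟨f, hf⟩⟩ := h.exists_coord
  obtain ⟨a', ⟨f', hf'⟩, ⟨e', he'⟩⟩ := h.symm.exists_coord
  have g1 : φ (a + a') = X * (1 + X ^ 3 * (e + e')) := by rw [map_add, he, he']; ring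
  have g2 : ψ (a + a') = X * (1 + X ^ 3 * (f + f')) := by rw [map_add, hf, hf']; ring
  have u1 : constantCoeff (1 + X ^ 3 * (e + e')) ≠ 0 := by simp
  have u2 : constantCoeff (1 + X ^ 3 * (f + f')) ≠ 0 := by simp
  have n1 : (1 + X ^ 3 * (e + e')) * (1 + X ^ 3 * (e + e'))⁻¹ = 1 := PowerSeries.mul_inv_cancel _ u1
  have n2 : (1 + X ^ 3 * (f + f')) * (1 + X ^ 3 * (f + f'))⁻¹ = 1 := PowerSeries.mul_inv_cancel _ u2
  generalize (1 + X ^ 3 * (e + e'))⁻¹ = v at n1
  generalize (1 + X ^ 3 * (f + f'))⁻¹ = w at n2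
  have hs : a + a' ∈ nonZeroDivisors A := by
    apply h.mem_nonZeroDivisors
    · rw [g1]
      refine mul_ne_zero X_ne_zero fun h0 => u1 (by rw [h0, map_zero])
    · rw [g2]
      refine mul_ne_zero X_ne_zero fun h0 => u2 (by rw [h0, map_zero])
  obtain ⟨c, hc, hc1, -⟩ := h.div ((a + a') ^ 2) (_root_.pow_mem hs 2) (a * a')
    ((1 + X ^ 3 * e) * X ^ 3 * e' * v ^ 2) ((1 + X ^ 3 * f') * X ^ 3 * f * w ^ 2) (by simp)
    (by
      rw [map_pow, g1, map_mul, he, he']
      linear_combination -((1 + X ^ 3 * e) * X ^ 5 * e') *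
        ((1 + X ^ 3 * (e + e')) * v + 1) * n1)
    (by
      rw [map_pow, g2, map_mul, hf, hf']
      linear_combination -((1 + X ^ 3 * f') * X ^ 5 * f) *
        ((1 + X ^ 3 * (f + f')) * w + 1) * n2)
  have hcm : c ∈ maximalIdeal A := (h.mem_iff c).2 (by rw [hc1]; simp)
  refine ⟨a, a + a', c, hs, hcm, ?_, ?_, ?_⟩
  · rw [← hc]; ring
  · intro n hn hcon
    have h1 := congrArg φ hcon
    rw [map_mul, g1, he] at h1
    have h2 : X * (1 + X ^ 3 * e) = X * ((1 + X ^ 3 * (e + e')) * φ n) := by linear_combination h1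
    have h3 := congrArg constantCoeff (mul_left_cancel₀ X_ne_zero h2)
    rw [map_mul, (h.mem_iff n).1 hn] at h3
    simp at h3
  · intro n hn hcon
    have h1 := congrArg ψ hcon
    rw [add_sub_cancel_left, map_mul, g2, hf'] at h1
    have h2 : X * (1 + X ^ 3 * f') = X * ((1 + X ^ 3 * (f + f')) * ψ n) := by linear_combination h1
    have h3 := congrArg constantCoeff (mul_left_cancel₀ X_ne_zero h2)
    rw [map_mul, (h.mem_iff' n).1 hn] at h3
    simp at h3

end Alg

attribute [local instance] Curv2.stalkAlgebra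

section Geo

variable (k : Type u) [Field k] [IsAlgClosed k] {X X' : Scheme.{u}} [X.Over (Spec (CommRingCat.of k))]
  [LocallyOfFiniteType (X ↘ (Spec (CommRingCat.of k)))] {ν : X' ⟶ X} {U : X.Opens}


theorem map_map {Z : Scheme.{u}} {V V' V'' : Z.Opens} (h : V' ≤ V) (h' : V'' ≤ V') (a : Γ(Z, V)) :
    Z.presheaf.map (homOfLE h').op (Z.presheaf.map (homOfLE h).op a) = Z.presheaf.map (homOfLE (h'.trans h)).op a := by
  rw [← CommRingCat.comp_apply, ← Functor.map_comp]
  rfl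

/-- The quotient of two functions as a function on the normalization. -/
theorem exists_quot (hX' : Pi1.IsNormalScheme X') {W : X.Opens} {u s c : Γ(X, W)}
    (hs : ∀ (w : X') (hw : w ∈ ν ⁻¹ᵁ W), X'.presheaf.germ (ν ⁻¹ᵁ W) w hw (ν.app W s) ≠ 0)
    (h : u ^ 2 + s ^ 2 * c = s * u) : ∃ e : Γ(X', ν ⁻¹ᵁ W), ν.app W s * e = ν.app W u := by
  have hdom : ∀ w : X', IsDomain (X'.presheaf.stalk w) := fun w => (hX' w).1
  obtain ⟨r, hr⟩ := exists_glue (X := X') (ν ⁻¹ᵁ W) (fun N r => ∃ h : N ≤ ν ⁻¹ᵁ W,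
      X'.presheaf.map (homOfLE h).op (ν.app W s) * r = X'.presheaf.map (homOfLE h).op (ν.app W u))
    (fun N N' h r ⟨h1, h2⟩ => ⟨h.trans h1, by
      have h3 := congrArg (X'.presheaf.map (homOfLE h).op) h2
      rw [map_mul, map_map, map_map] at h3
      exact h3⟩)
    (fun N r r' _ ⟨h1, e1⟩ ⟨_, e2⟩ => section_ext fun w hw => by
      have := hdom w
      apply mul_left_cancel₀ (hs w (h1 hw))
      have e3 := congrArg (X'.presheaf.germ N w hw) (e1.trans e2.symm)
      rwa [map_mul, map_mul, germ_res] at e3)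
    (fun w hw => by
      have := hdom w
      have := (hX' w).2
      obtain ⟨υ, hυ⟩ : ∃ υ, X'.presheaf.germ (ν ⁻¹ᵁ W) w hw (ν.app W u) =
          X'.presheaf.germ (ν ⁻¹ᵁ W) w hw (ν.app W s) * υ := by
        refine IntPair.exists_of_isIntegrallyClosed (hs w hw) ?_
        exact (((IntPair.of_quadratic h).map (ν.app W).hom).map (X'.presheaf.germ (ν ⁻¹ᵁ W) w hw).hom)
      obtain ⟨N, hwN, r, rfl⟩ := TopCat.Presheaf.exists_germ_eq X'.presheaf υ
      have h1 : X'.presheaf.germ (ν ⁻¹ᵁ W) w hw (ν.app W u) = X'.presheaf.germ (ν ⁻¹ᵁ W ⊓ N) w ⟨hw, hwN⟩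
          (X'.presheaf.map (homOfLE inf_le_left).op (ν.app W s) * X'.presheaf.map (homOfLE inf_le_right).op r) := by
        rw [map_mul]
        exact hυ.trans (congrArg₂ (· * ·) (germ_res inf_le_left w ⟨hw, hwN⟩ _).symm
          (germ_res inf_le_right w ⟨hw, hwN⟩ _).symm)
      obtain ⟨N', hwN', i1, i2, e⟩ := exists_eq w _ _ _ _ h1
      rw [map_mul] at e
      refine ⟨N', i1, hwN', X'.presheaf.map (homOfLE i2).op (X'.presheaf.map (homOfLE inf_le_right).op r), i1, ?_⟩
      rw [e]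
      congr 1
      exact (map_map inf_le_left i2 _).symm)
  refine ⟨r, section_ext fun w hw => ?_⟩
  obtain ⟨N, hN, hwN, _, e⟩ := hr w hw
  have e1 := congrArg (X'.presheaf.germ N w hwN) e
  rw [map_mul, germ_res, germ_res, germ_res] at e1
  rw [map_mul]
  exact e1

/-- If a point has only one point of the normalization over it, and the fraction `u / s` vanishes there, then
`u / s` lies in the maximal ideal. -/
theorem exists_of_unique [IsFinite ν] [IsReduced X] (hX' : Pi1.IsNormalScheme X') (hU : Dense (U : Set X))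
    (hν : IsIso (ν ∣_ U)) (x : X) {φ ψ : X.presheaf.stalk x →+* k⟦X⟧} (hb : IsBranch k φ ψ)
    {w₀ : X'} (hw₀ : ν w₀ = x) (huniq : ∀ w : X', ν w = x → w = w₀)
    {W : X.Opens} (hxW : x ∈ W) {u s c : Γ(X, W)} (hc : X.presheaf.germ W x hxW c ∈ maximalIdeal (X.presheaf.stalk x))
    (e : Γ(X', ν ⁻¹ᵁ W)) (he : ν.app W s * e = ν.app W u) (hec : e * (1 - e) = ν.app W c)
    (hw₀W : w₀ ∈ ν ⁻¹ᵁ W)
    (he0 : X'.presheaf.germ (ν ⁻¹ᵁ W) w₀ hw₀W e ∈ maximalIdeal (X'.presheaf.stalk w₀)) :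
    ∃ n ∈ maximalIdeal (X.presheaf.stalk x), X.presheaf.germ W x hxW u = X.presheaf.germ W x hxW s * n := by
  have : IsLocallyNoetherian X :=
    Groth.Agent.CurvesB.NodeSch2.isLocallyNoetherian_of_locallyOfFiniteType (X ↘ (Spec (CommRingCat.of k)))
  -- a neighbourhood of `x` over which `1 - e` is invertible
  let N : X'.Opens := X'.basicOpen (1 - e)
  have hwN : w₀ ∈ N := by
    rw [Scheme.mem_basicOpen _ _ _ hw₀W, map_sub, map_one]
    by_contra hcon
    have h2 := Ideal.add_mem _ (show _ ∈ maximalIdeal _ from hcon) he0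
    rw [sub_add_cancel] at h2
    exact h2 isUnit_one
  have hT : IsClosed (ν '' (N : Set X')ᶜ) := ν.isClosedMap _ N.isOpen.isClosed_compl
  have hxT : x ∉ ν '' (N : Set X')ᶜ := by
    rintro ⟨w, hw, hwx⟩
    exact hw (huniq w hwx ▸ hwN)
  let W' : X.Opens := W ⊓ ⟨(ν '' (N : Set X')ᶜ)ᶜ, hT.isOpen_compl⟩
  have hxW' : x ∈ W' := ⟨hxW, hxT⟩
  obtain ⟨V, hV, hxV, hle⟩ := exists_isAffineOpen_mem_and_subset (x := x) (U := W') hxW'
  have hVW : V ≤ W := fun y hy => (hle hy).1
  have hVN : ν ⁻¹ᵁ V ≤ N := by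
    intro w hw
    by_contra hcon
    exact (hle hw).2 ⟨w, hcon, rfl⟩
  -- the inverse of `1 - e`
  have hu : IsUnit (X'.presheaf.map (homOfLE (ν.preimage_mono hVW)).op (1 - e)) := by
    have h1 : IsUnit (X'.presheaf.map (homOfLE (X'.basicOpen_le (1 - e))).op (1 - e)) :=
      RingedSpace.isUnit_res_basicOpen _ (1 - e)
    have h2 := h1.map (X'.presheaf.map (homOfLE hVN).op).hom
    convert h2 using 1
    exact (map_map (X'.basicOpen_le (1 - e)) hVN (1 - e)).symm
  obtain ⟨b, hb1⟩ := hu.exists_right_inv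
  obtain ⟨t, a, ht, hta⟩ := exists_den hU hν hV b
  have ht' := germ_mem_nonZeroDivisors hV ht x hxV
  obtain ⟨n, hn, hcn⟩ := hb.mul_max ht' (intPair_germ hU hν hV hta x hxV) hc
  refine ⟨n, hn, ?_⟩
  -- the identity on `V`
  have key : t * X.presheaf.map (homOfLE hVW).op u =
      X.presheaf.map (homOfLE hVW).op s * (X.presheaf.map (homOfLE hVW).op c * a) := by
    apply injective_app hU hν V
    rw [map_mul, map_mul, map_mul, app_res, app_res, app_res, ← he, ← hec, ← hta]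
    rw [map_mul, map_mul]
    linear_combination -(X'.presheaf.map (homOfLE (ν.preimage_mono hVW)).op (ν.app W s) *
      X'.presheaf.map (homOfLE (ν.preimage_mono hVW)).op e * ν.app V t) * hb1
  have key' := congrArg (X.presheaf.germ V x hxV) key
  rw [map_mul, map_mul, map_mul, germ_res, germ_res, germ_res, hcn] at key'
  rw [mem_nonZeroDivisors_iff_left] at ht'
  rw [← sub_eq_zero]
  apply ht'
  linear_combination key'

/-- Over a node there are at least two points of the normalization. -/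
theorem exists_two [IsFinite ν] [IsReduced X] (hX' : Pi1.IsNormalScheme X') (hU : Dense (U : Set X))
    (hU' : Dense ((ν ⁻¹ᵁ U : X'.Opens) : Set X')) (hν : IsIso (ν ∣_ U)) (x : X) (hx : Curv2.IsNode k X x) :
    ∃ w w' : X', w ≠ w' ∧ ν w = x ∧ ν w' = x := by
  have : IsLocallyNoetherian X :=
    Groth.Agent.CurvesB.NodeSch2.isLocallyNoetherian_of_locallyOfFiniteType (X ↘ (Spec (CommRingCat.of k)))
  have hdom : ∀ w : X', IsDomain (X'.presheaf.stalk w) := fun w => (hX' w).1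
  obtain ⟨φ, ψ, hb⟩ := exists_isBranch_of_isNode X k x hx
  obtain ⟨u₀, s₀, c₀, hs₀, hc₀, h₀, h1, h2⟩ := exists_idem hb
  -- a point over `x`
  obtain ⟨w₀, hw₀⟩ : ∃ w : X', ν w = x := by
    have h3 : IsClosed (Set.range ν) := ν.isClosedMap.isClosed_range
    have h4 : (U : Set X) ⊆ Set.range ν := by
      intro y hy
      obtain ⟨w, hw⟩ := exists_preimage hν y hy
      exact ⟨w, hw⟩
    have h5 : Set.range ν = Set.univ := by
      have := (hU.mono h4).closure_eq
      rwa [h3.closure_eq] at this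
    have h6 : x ∈ Set.range ν := by rw [h5]; trivial
    exact h6
  by_contra hcon
  push Not at hcon
  have huniq : ∀ w : X', ν w = x → w = w₀ := by
    intro w hw
    by_contra hne
    exact hcon w w₀ hne hw hw₀
  -- spread out
  obtain ⟨V, hV, hxV, s, hs, hs'⟩ := exists_nzd_section x s₀ hs₀
  obtain ⟨W₁, hxW₁, u₁, c₁, hu₁, hc₁⟩ := exists_common x u₀ c₀
  have hrel : X.presheaf.germ (V ⊓ W₁) x ⟨hxV, hxW₁⟩ ((X.presheaf.map (homOfLE inf_le_right).op u₁) ^ 2 +
      (X.presheaf.map (homOfLE inf_le_left).op s) ^ 2 * X.presheaf.map (homOfLE inf_le_right).op c₁) =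
      X.presheaf.germ (V ⊓ W₁) x ⟨hxV, hxW₁⟩ (X.presheaf.map (homOfLE inf_le_left).op s *
        X.presheaf.map (homOfLE inf_le_right).op u₁) := by
    have e1 : X.presheaf.germ (V ⊓ W₁) x ⟨hxV, hxW₁⟩ (X.presheaf.map (homOfLE inf_le_right).op u₁) = u₀ :=
      (germ_res inf_le_right x ⟨hxV, hxW₁⟩ u₁).trans hu₁
    have e2 : X.presheaf.germ (V ⊓ W₁) x ⟨hxV, hxW₁⟩ (X.presheaf.map (homOfLE inf_le_right).op c₁) = c₀ :=
      (germ_res inf_le_right x ⟨hxV, hxW₁⟩ c₁).trans hc₁
    have e3 : X.presheaf.germ (V ⊓ W₁) x ⟨hxV, hxW₁⟩ (X.presheaf.map (homOfLE inf_le_left).op s) = s₀ :=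
      (germ_res inf_le_left x ⟨hxV, hxW₁⟩ s).trans hs'
    rw [map_add, map_mul, map_mul, map_pow, map_pow, e1, e2, e3]
    exact h₀
  obtain ⟨W, hxW, i1, i2, erel⟩ := exists_eq x _ _ _ _ hrel
  rw [map_add, map_mul, map_mul, map_pow, map_pow] at erel
  have eu : X.presheaf.germ W x hxW (X.presheaf.map (homOfLE i1).op (X.presheaf.map (homOfLE inf_le_right).op u₁)) =
      u₀ := (germ_res i1 x hxW _).trans ((germ_res inf_le_right x ⟨hxV, hxW₁⟩ u₁).trans hu₁)
  have ec : X.presheaf.germ W x hxW (X.presheaf.map (homOfLE i1).op (X.presheaf.map (homOfLE inf_le_right).op c₁)) =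
      c₀ := (germ_res i1 x hxW _).trans ((germ_res inf_le_right x ⟨hxV, hxW₁⟩ c₁).trans hc₁)
  have es : X.presheaf.germ W x hxW (X.presheaf.map (homOfLE i1).op (X.presheaf.map (homOfLE inf_le_left).op s)) =
      s₀ := (germ_res i1 x hxW _).trans ((germ_res inf_le_left x ⟨hxV, hxW₁⟩ s).trans hs')
  have hsne : ∀ (w : X') (hw : w ∈ ν ⁻¹ᵁ W), X'.presheaf.germ (ν ⁻¹ᵁ W) w hw (ν.app W
      (X.presheaf.map (homOfLE i1).op (X.presheaf.map (homOfLE inf_le_left).op s))) ≠ 0 := by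
    intro w hw
    have hwV : w ∈ ν ⁻¹ᵁ V := (i1 hw).1
    have := germ_app_ne_zero hU' hν hV hs w hwV
    rw [germ_app] at this ⊢
    rw [germ_res, germ_res]
    exact this
  generalize X.presheaf.map (homOfLE i1).op (X.presheaf.map (homOfLE inf_le_right).op u₁) = u at *
  generalize X.presheaf.map (homOfLE i1).op (X.presheaf.map (homOfLE inf_le_right).op c₁) = c at *
  generalize X.presheaf.map (homOfLE i1).op (X.presheaf.map (homOfLE inf_le_left).op s) = s at *
  obtain ⟨e, he⟩ := exists_quot hX' hsne erel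
  have hec : e * (1 - e) = ν.app W c := by
    refine section_ext fun w hw => ?_
    have := hdom w
    apply mul_left_cancel₀ (pow_ne_zero 2 (hsne w hw))
    have e1 := congrArg (X'.presheaf.germ (ν ⁻¹ᵁ W) w hw) he
    have e2 := congrArg (fun z => X'.presheaf.germ (ν ⁻¹ᵁ W) w hw (ν.app W z)) erel
    simp only [map_add, map_mul, map_pow] at e1 e2
    rw [map_mul, map_sub, map_one]
    rw [← e1] at e2
    linear_combination -e2
  have hw₀W : w₀ ∈ ν ⁻¹ᵁ W := by
    change ν w₀ ∈ W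
    rw [hw₀]; exact hxW
  have hcm : X'.presheaf.germ (ν ⁻¹ᵁ W) w₀ hw₀W (ν.app W c) ∈ maximalIdeal (X'.presheaf.stalk w₀) := by
    rw [germ_app]
    subst hw₀
    refine map_nonunit (ν.stalkMap w₀).hom _ ?_
    change X.presheaf.germ W (ν w₀) hxW c ∈ _
    rw [ec]; exact hc₀
  rw [← hec, map_mul] at hcm
  rcases Ideal.IsPrime.mem_or_mem (inferInstance : (maximalIdeal (X'.presheaf.stalk w₀)).IsPrime) hcm with h | h
  · obtain ⟨n, hn, hn'⟩ := exists_of_unique k hX' hU hν x hb hw₀ huniq hxW (u := u) (s := s) (c := c)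
      (by rw [ec]; exact hc₀) e he hec hw₀W h
    rw [eu, es] at hn'
    exact h1 n hn hn'
  · obtain ⟨n, hn, hn'⟩ := exists_of_unique k hX' hU hν x hb hw₀ huniq hxW (u := s - u) (s := s) (c := c)
      (by rw [ec]; exact hc₀) (1 - e) (by rw [mul_sub, he, map_sub, mul_one]) (by rw [← hec]; ring) hw₀W h
    rw [map_sub, eu, es] at hn'
    exact h2 n hn hn'

end Geo

end K316.NodeFib
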