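import Groth.Agent.CurvSt.K316.GenusNode
import Groth.Agent.CurvSt.K316.NodeFib
import Groth.Agent.CurvSt.K896.TailBridge
import Groth.Agent.CurvSt.K896.CompG
import Groth.Agent.CurvSt.K897.NodeCross
import Groth.Agent.S2347
import Groth.Agent.S9800
import Groth.Agent.Models.H55.IntFib
import Groth.Agent.S4880
import Groth.Agent.VBCurve.K707.Base

/-!
# Special points on the normalized components of a stable pointed curve

On the normalization `Y` of a component of a stable pointed curve there are `m` points over nodes or marked points with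
`2 g(Y) - 2 + m > 0`.
-/

set_option autoImplicit false
universe u
open CategoryTheory CategoryTheory.Limits AlgebraicGeometry TopologicalSpace IsLocalRing

namespace K316.StabCount

open Groth.Agent Groth.Agent.CurvesC.CompGeom Groth.Agent.Divis.CartierBasic

variable (k : Type u) [Field k] [IsAlgClosed k] (X : Scheme.{u}) [X.Over (Spec (CommRingCat.of k))]
  [IsProper (X ↘ (Spec (CommRingCat.of k)))] [ConnectedSpace X] [AlgebraicGeometry.IsReduced X]
  (hdim : topologicalKrullDim X = 1) (hX : Curv2.AtWorstNodal k X)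
  (C : Set X) (hC : C ∈ irreducibleComponents (X : Type u))
  (Y : Scheme.{u}) (g : Y ⟶ (IC X C hC).subscheme) [IsFinite g] [Surjective g] [IsIntegral Y]
  (hY : Pi1.IsNormalScheme Y) (hYdim : topologicalKrullDim Y = 1)
  (V : (IC X C hC).subscheme.Opens) (hV : (V : Set (IC X C hC).subscheme).Nonempty) (hiso : IsIso (g ∣_ V))

include hC in
omit [AlgebraicGeometry.IsReduced X] in
/-- A component which meets no other component is everything. -/
theorem eq_univ (h : ∀ x, x ∉ C ∩ closure Cᶜ) : C = Set.univ := by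
  have hcl := isClosed_of_mem_irreducibleComponents C hC
  have hop : IsOpen C := by
    have h1 : C = (closure Cᶜ)ᶜ := by
      ext x
      constructor
      · intro hx hx'
        exact h x ⟨hx, hx'⟩
      · intro hx
        by_contra hxC
        exact hx (subset_closure hxC)
    rw [h1]
    exact isClosed_closure.isOpen_compl
  rcases isClopen_iff.1 ⟨hcl, hop⟩ with h2 | h2
  · exact absurd h2 hC.1.nonempty.ne_empty
  · exact h2

/-- The map to `X`. -/
noncomputable abbrev mp : Y ⟶ X := g ≫ (IC X C hC).subschemeι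

omit [IsAlgClosed k] [IsProper (X ↘ (Spec (CommRingCat.of k)))] [ConnectedSpace X] [AlgebraicGeometry.IsReduced X]
  [X.Over (Spec (CommRingCat.of k))] [IsFinite g] [IsIntegral Y] [Field k] in
theorem range_mp : Set.range (mp X C hC Y g) = C := by
  refine Eq.trans ?_ (range_C X C hC)
  ext x
  constructor
  · rintro ⟨y, rfl⟩
    exact ⟨g y, rfl⟩
  · rintro ⟨z, rfl⟩
    obtain ⟨y, rfl⟩ := g.surjective z
    exact ⟨y, rfl⟩

include hdim hX hY hV hiso in
/-- The genus of an irreducible nodal curve. -/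
theorem genus_univ (hu : C = Set.univ) :
    letI : Y.Over (Spec (CommRingCat.of k)) := ⟨mp X C hC Y g ≫ (X ↘ (Spec (CommRingCat.of k)))⟩
    (Curv2.genus k X : ℤ) = (Curv2.genus k Y : ℤ) + Nat.card {x : X // Curv2.IsNode k X x} := by
  let _ : Y.Over (Spec (CommRingCat.of k)) := ⟨mp X C hC Y g ≫ (X ↘ (Spec (CommRingCat.of k)))⟩
  have hN : AlgebraicGeometry.IsNoetherian X := Groth.Agent.CurvesC.CurveCoh.noetherianSpace k X
  have hirr : IrreducibleSpace X := by
    have h1 : IsIrreducible (Set.univ : Set X) := hu ▸ hC.1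
    exact (irreducibleSpace_def X).2 h1
  have hs : Surjective (IC X C hC).subschemeι := by
    constructor
    rw [← Set.range_eq_univ, range_C, hu]
  have hi : IsIso (IC X C hC).subschemeι := isIso_of_isClosedImmersion_of_surjective _
  let W : X.Opens := inv (IC X C hC).subschemeι ⁻¹ᵁ V
  have hW : (IC X C hC).subschemeι ⁻¹ᵁ W = V := by
    have h1 : (IC X C hC).subschemeι ⁻¹ᵁ W = ((IC X C hC).subschemeι ≫ inv (IC X C hC).subschemeι) ⁻¹ᵁ V := rfl
    rw [h1, IsIso.hom_inv_id]
    rfl
  have hWiso : IsIso (mp X C hC Y g ∣_ W) := by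
    rw [morphismRestrict_comp]
    have h1 : IsIso (g ∣_ ((IC X C hC).subschemeι ⁻¹ᵁ W)) := by rw [hW]; exact hiso
    exact IsIso.comp_isIso' h1 inferInstance
  obtain ⟨v, hv⟩ := hV
  have hWne : (W : Set X).Nonempty := by
    refine ⟨(IC X C hC).subschemeι v, ?_⟩
    have h2 : v ∈ (IC X C hC).subschemeι ⁻¹ᵁ W := by rw [hW]; exact hv
    exact h2
  obtain ⟨y, hy⟩ := g.surjective v
  have hYne : ((mp X C hC Y g ⁻¹ᵁ W : Y.Opens) : Set Y).Nonempty := by
    refine ⟨y, ?_⟩
    have h2 : g y ∈ (IC X C hC).subschemeι ⁻¹ᵁ W := by rw [hW, hy]; exact hv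
    exact h2
  have key := GenusNode.genus_formula k X
    (fun Z hZ => Groth.Agent.CurvesC.TailMain.pure_of_connected X hdim Z hZ) hX Y (mp X C hC Y g) hY W
    (W.isOpen.dense hWne) ((mp X C hC Y g ⁻¹ᵁ W).isOpen.dense hYne) hWiso
  have hcard : Nat.card (_root_.ConnectedComponents Y) = 1 := by
    rw [Nat.card_eq_one_iff_unique]
    exact ⟨inferInstance, inferInstance⟩
  have key' : (Curv2.genus k X : ℤ) + Nat.card (_root_.ConnectedComponents Y) =
      (Curv2.genus k Y : ℤ) + Nat.card {x : X // Curv2.IsNode k X x} + 1 := key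
  rw [hcard] at key'
  push_cast at key'
  linarith

include hY hV hiso in
/-- A normal component of genus zero is a smooth rational component. -/
theorem isSmRatComp (hC1 : topologicalKrullDim C = 1) (hYdim : topologicalKrullDim Y = 1)
    (hZ : Pi1.IsNormalScheme (IC X C hC).subscheme)
    (hg : letI : Y.Over (Spec (CommRingCat.of k)) := ⟨mp X C hC Y g ≫ (X ↘ (Spec (CommRingCat.of k)))⟩
      Curv2.genus k Y = 0) :
    CurvSt.IsSmRatComp k X (X ↘ (Spec (CommRingCat.of k))) C := by
  let _ : Y.Over (Spec (CommRingCat.of k)) := ⟨mp X C hC Y g ≫ (X ↘ (Spec (CommRingCat.of k)))⟩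
  have hP : IsProper (Y ↘ (Spec (CommRingCat.of k))) :=
    inferInstanceAs (IsProper (mp X C hC Y g ≫ (X ↘ (Spec (CommRingCat.of k)))))
  have hi : IsIso g := by
    refine S2347.result hZ g V (V.isOpen.dense hV) (inv (g ∣_ V) ≫ (g ⁻¹ᵁ V).ι) ?_
    rw [Category.assoc, ← morphismRestrict_ι, IsIso.inv_hom_id_assoc]
  have hfin : Module.Finite k (Coh.HH Y (Coh.structureModule Y) 1) :=
    S0002.result k Y _ (CurvesB.UnitCoh.isCoh_structureModule Y) 1
  have h1 : Subsingleton (Coh.HH Y (Coh.structureModule Y) 1) := Module.finrank_zero_iff.mp hg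
  obtain ⟨e, -⟩ := K896.TailBridge.exists_iso_P1 k Y hYdim h1
  exact K896.TailBridge.isSmRatComp_of_h1 k X C hC hC1
    (K896.TailBridge.subsingleton_of_iso_P1 (e.symm ≪≫ asIso g))

omit [IsProper (X ↘ (Spec (CommRingCat.of k)))] [ConnectedSpace X] [AlgebraicGeometry.IsReduced X] in
/-- Smooth points are not nodes. -/
theorem not_isNode [LocallyOfFiniteType (X ↘ (Spec (CommRingCat.of k)))] (x : X)
    (h : ∃ U : X.Opens, x ∈ U ∧ Smooth (U.ι ≫ (X ↘ Spec (CommRingCat.of k)))) : ¬ Curv2.IsNode k X x := by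
  intro hn
  have hN : IsLocallyNoetherian X := LocallyOfFiniteType.isLocallyNoetherian (X ↘ (Spec (CommRingCat.of k)))
  have h1 := CurvesB.NodeSch2.isRegularLocalRing_of_exists k x h
  have h2 := Groth.Agent.CurvesC.RegNormal.isIntegrallyClosed (X.presheaf.stalk x)
  have h3 := ((Groth.Agent.CurvesB.Node.isNode_iff_resFS k X x).1 hn).2
  have h4 := K830.NodeNorm.deltaInv_eq_one h3
  rw [(K421.NormCl.deltaInv_eq_zero_iff _).2 h2] at h4
  exact zero_ne_one h4

include hdim hX in
/-- A component without nodes of its own is normal. -/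
theorem isNormal_comp (hself : ∀ x : X, Curv2.IsNode k X x → x ∈ C → stalkIdeal (IC X C hC) x ≠ ⊥) :
    Pi1.IsNormalScheme (IC X C hC).subscheme := by
  have hN : AlgebraicGeometry.IsNoetherian X := Groth.Agent.CurvesC.CurveCoh.noetherianSpace k X
  have hpure := Groth.Agent.CurvesC.TailMain.pure_of_connected X hdim
  have hJ : K897.UnionTop.IsUnion ((IC X C hC).support : Set X) := by
    rw [support_IC]
    exact K897.UnionTop.isUnion_component hC
  intro z
  by_cases hz : z = genericPoint (IC X C hC).subscheme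
  · have hf : IsField ((IC X C hC).subscheme.presheaf.stalk z) := by
      rw [hz]
      exact K707.Base.isField_gen _
    let _ := hf.toField
    exact ⟨inferInstance, inferInstance⟩
  · have hzc := S4880.isClosed_of_dim_le_one (IC X C hC).subscheme (dim_C_le X C hC hdim.le) z hz
    have hxc : IsClosed ({(IC X C hC).subschemeι z} : Set X) := by
      have h1 := (IC X C hC).subschemeι.isClosedEmbedding.isClosedMap _ hzc
      rwa [Set.image_singleton] at h1
    have hxC : (IC X C hC).subschemeι z ∈ C := by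
      have h1 : (IC X C hC).subschemeι z ∈ Set.range (IC X C hC).subschemeι := ⟨z, rfl⟩
      rwa [range_C] at h1
    rcases hX _ hxc with h | h
    · have h1 := K897.NodeCross.bot_of_smooth hpure hJ hxc z rfl h
      obtain ⟨e⟩ := K897.NodeCross.nonempty_equiv' (J := IC X C hC) z rfl
      have h2 := CurvesB.NodeSch2.isRegularLocalRing_of_exists k _ h
      have h3 := Groth.Agent.CurvesC.RegNormal.isDomain (X.presheaf.stalk ((IC X C hC).subschemeι z))
      have h4 := Groth.Agent.CurvesC.RegNormal.isIntegrallyClosed (X.presheaf.stalk ((IC X C hC).subschemeι z))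
      let e' : X.presheaf.stalk ((IC X C hC).subschemeι z) ≃+* (IC X C hC).subscheme.presheaf.stalk z :=
        ((RingEquiv.quotientBot _).symm.trans (Ideal.quotEquivOfEq h1.symm)).trans e
      have h5 : IsDomain ((IC X C hC).subscheme.presheaf.stalk z) := e'.symm.toMulEquiv.isDomain _
      exact ⟨h5, IsIntegrallyClosed.of_equiv e'⟩
    · obtain ⟨h1, h2⟩ := K897.NodeCross.dvr_of_node hpure hJ z hxc (hself _ h hxC) h
      exact ⟨h1, inferInstance⟩

include hC in
omit [Field k] [IsAlgClosed k] [X.Over (Spec (CommRingCat.of k))] [IsProper (X ↘ (Spec (CommRingCat.of k)))]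
  [ConnectedSpace X] [AlgebraicGeometry.IsReduced X] in
/-- A node of the component alone. -/
theorem stalkIdeal_ne_bot (x : X) (hx : x ∈ closure Cᶜ) [AlgebraicGeometry.IsNoetherian X] :
    stalkIdeal (IC X C hC) x ≠ ⊥ := by
  obtain ⟨E, hE, hEC, hxE⟩ := (K896.CompMeet.mem_closure_compl_iff hC x).mp hx
  obtain ⟨w, hw⟩ := QuasiSober.sober hE.1 (isClosed_of_mem_irreducibleComponents E hE)
  refine K897.NodeCross.stalkIdeal_ne_bot (IC X C hC) (hw.specializes hxE) fun h => ?_
  have hwC : w ∈ C := by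
    have : w ∈ ((IC X C hC).support : Set X) := h
    rwa [support_IC] at this
  apply hEC
  have h1 : E ⊆ C := by
    intro v hv
    exact (hw.specializes hv).mem_closed (isClosed_of_mem_irreducibleComponents C hC) hwC
  exact h1.antisymm (hE.2 hC.1 h1)

variable {n : ℕ} (x : Fin n → X)

/-- The special points of a component. -/
def G : Set Y := {y | Curv2.IsNode k X (mp X C hC Y g y) ∨ ∃ i, x i = mp X C hC Y g y}

variable (hinj : Function.Injective x)
  (hsm : ∀ i, IsClosed ({x i} : Set X) ∧ ∃ U : X.Opens, x i ∈ U ∧ Smooth (U.ι ≫ (X ↘ Spec (CommRingCat.of k))))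
  (hrat : CurvSt.IsSmRatComp k X (X ↘ Spec (CommRingCat.of k)) C →
    (3 : ℕ∞) ≤ (CurvSt.meetPts X C).encard + (Nat.card {i : Fin n // x i ∈ C} : ℕ∞))
  (hgn : 3 ≤ 2 * Curv2.genus k X + n)

include hdim hYdim hsm in
theorem isClosed_G (y : Y) (hy : y ∈ G k X C hC Y g x) : IsClosed ({y} : Set Y) := by
  have hN : AlgebraicGeometry.IsNoetherian X := Groth.Agent.CurvesC.CurveCoh.noetherianSpace k X
  have h1 : IsClosed ({mp X C hC Y g y} : Set X) := by
    rcases hy with h | ⟨i, h⟩
    · exact h.1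
    · rw [← h]; exact (hsm i).1
  refine S4880.isClosed_of_dim_le_one Y hYdim.le y ?_
  intro hgen
  have h2 : closure {mp X C hC Y g y} = C := by
    have h3 := (genericPoint_spec Y).image (mp X C hC Y g).continuous
    rw [Set.image_univ, range_mp, (isClosed_of_mem_irreducibleComponents C hC).closure_eq] at h3
    rw [hgen]
    exact h3
  rw [h1.closure_eq] at h2
  have h3 : Subsingleton C := by
    rw [← h2]
    infer_instance
  have h4 := Groth.Agent.CurvesC.TailMain.pure_of_connected X hdim C hC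
  have h5 : topologicalKrullDim C ≤ 0 := topologicalKrullDim_zero_of_discreteTopology C
  rw [h4] at h5
  exact absurd h5 (by decide)

omit [ConnectedSpace X] [AlgebraicGeometry.IsReduced X] [IsIntegral Y] [IsFinite g] [IsAlgClosed k]
  [IsProper (X ↘ (Spec (CommRingCat.of k)))] in
theorem exists_over (p : X) (hp : p ∈ C) : ∃ y, mp X C hC Y g y = p := by
  have h1 : p ∈ Set.range (mp X C hC Y g) := by rw [range_mp]; exact hp
  exact h1

include hdim hX hY hYdim hV hiso hinj hsm hrat hgn in
/-- The number of special points. -/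
theorem le_encard (htwo : ∀ p, Curv2.IsNode k X p → p ∈ C → p ∉ closure Cᶜ →
      ∃ y y' : Y, y ≠ y' ∧ mp X C hC Y g y = p ∧ mp X C hC Y g y' = p) :
    letI : Y.Over (Spec (CommRingCat.of k)) := ⟨mp X C hC Y g ≫ (X ↘ (Spec (CommRingCat.of k)))⟩
    ∃ N : ℕ, 0 < 2 * (Curv2.genus k Y : ℤ) - 2 + N ∧ (N : ℕ∞) ≤ (G k X C hC Y g x).encard := by
  let _ : Y.Over (Spec (CommRingCat.of k)) := ⟨mp X C hC Y g ≫ (X ↘ (Spec (CommRingCat.of k)))⟩
  have hN : AlgebraicGeometry.IsNoetherian X := Groth.Agent.CurvesC.CurveCoh.noetherianSpace k X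
  have hpure := Groth.Agent.CurvesC.TailMain.pure_of_connected X hdim C hC
  have hmeet : ∀ p ∈ C ∩ closure Cᶜ, Curv2.IsNode k X p := fun p hp =>
    (K896.CompG.local_props k X hdim hX C hC p hp).1
  have hover := exists_over X C hC Y g
  have hgen := genus_univ k X hdim hX C hC Y g hY V hV hiso
  by_cases hγ2 : 2 ≤ Curv2.genus k Y
  · exact ⟨0, by push_cast; omega, by simp⟩
  by_cases hγ1 : Curv2.genus k Y = 1
  · refine ⟨1, by rw [hγ1]; norm_num, ?_⟩
    rw [Nat.cast_one, Set.one_le_encard_iff_nonempty]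
    by_contra hG
    rw [Set.not_nonempty_iff_eq_empty] at hG
    have hu : C = Set.univ := by
      refine eq_univ X C hC fun p hp => ?_
      obtain ⟨y, hy⟩ := hover p hp.1
      have h1 : y ∈ G k X C hC Y g x := Or.inl (by rw [hy]; exact hmeet p hp)
      rw [hG] at h1
      exact h1
    have h1 := hgen hu
    have h2 : Nat.card {x : X // Curv2.IsNode k X x} = 0 := by
      have : IsEmpty {x : X // Curv2.IsNode k X x} := by
        constructor
        rintro ⟨p, hp⟩
        obtain ⟨y, hy⟩ := hover p (by rw [hu]; trivial)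
        have h1 : y ∈ G k X C hC Y g x := Or.inl (by rw [hy]; exact hp)
        rw [hG] at h1
        exact h1
      exact Nat.card_of_isEmpty
    have h3 : n = 0 := by
      by_contra hn
      obtain ⟨y, hy⟩ := hover (x ⟨0, Nat.pos_of_ne_zero hn⟩) (by rw [hu]; trivial)
      have h1 : y ∈ G k X C hC Y g x := Or.inr ⟨_, hy.symm⟩
      rw [hG] at h1
      exact h1
    have h4 : (Curv2.genus k X : ℤ) = (Curv2.genus k Y : ℤ) + Nat.card {x : X // Curv2.IsNode k X x} := h1
    rw [h2, hγ1] at h4
    push_cast at h4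
    omega
  have hγ0 : Curv2.genus k Y = 0 := by omega
  refine ⟨3, by rw [hγ0]; norm_num, ?_⟩
  by_cases hself : ∀ p : X, Curv2.IsNode k X p → p ∈ C → stalkIdeal (IC X C hC) p ≠ ⊥
  · have hZ := isNormal_comp k X hdim hX C hC hself
    have h3 := hrat (isSmRatComp k X C hC Y g hY V hV hiso hpure hYdim hZ hγ0)
    -- the special points of `C`
    let T : Set X := CurvSt.meetPts X C ∪ x '' {i | x i ∈ C}
    have hdisj : Disjoint (CurvSt.meetPts X C) (x '' {i | x i ∈ C}) := by
      rw [Set.disjoint_left]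
      rintro p hp ⟨i, hi, rfl⟩
      rw [K896.CompMeet.meetPts_eq hC] at hp
      exact not_isNode k X _ (hsm i).2 (hmeet _ hp)
    have hT : (3 : ℕ∞) ≤ T.encard := by
      rw [Set.encard_union_eq hdisj, hinj.encard_image]
      have h4 : ({i | x i ∈ C} : Set (Fin n)).encard = (Nat.card {i : Fin n // x i ∈ C} : ℕ∞) := by
        rw [← Set.Finite.cast_ncard_eq (Set.toFinite _)]
        rfl
      rw [h4]
      exact h3
    have hTG : ∀ p ∈ T, ∃ y ∈ G k X C hC Y g x, mp X C hC Y g y = p := by
      rintro p (hp | ⟨i, hi, rfl⟩)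
      · rw [K896.CompMeet.meetPts_eq hC] at hp
        obtain ⟨y, hy⟩ := hover p hp.1
        exact ⟨y, Or.inl (by rw [hy]; exact hmeet p hp), hy⟩
      · obtain ⟨y, hy⟩ := hover (x i) hi
        exact ⟨y, Or.inr ⟨i, hy.symm⟩, hy⟩
    have hsub : T ⊆ mp X C hC Y g '' (G k X C hC Y g x) := by
      intro p hp
      obtain ⟨y, hy, h⟩ := hTG p hp
      exact ⟨y, hy, h⟩
    exact (hT.trans (Set.encard_le_encard hsub)).trans (Set.encard_image_le _ _)
  · push Not at hself
    obtain ⟨p, hp, hpC, hp0⟩ := hself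
    have hpn : p ∉ closure Cᶜ := fun h => stalkIdeal_ne_bot X C hC p h hp0
    obtain ⟨y₁, y₂, hne, h1, h2⟩ := htwo p hp hpC hpn
    have hy₁ : y₁ ∈ G k X C hC Y g x := Or.inl (by rw [h1]; exact hp)
    have hy₂ : y₂ ∈ G k X C hC Y g x := Or.inl (by rw [h2]; exact hp)
    by_contra hlt
    have hthree : ∀ y ∈ G k X C hC Y g x, y = y₁ ∨ y = y₂ := by
      intro y hy
      by_contra hcon
      push Not at hcon
      apply hlt
      have h3 : ({y, y₁, y₂} : Set Y) ⊆ G k X C hC Y g x := by
        rintro z (rfl | rfl | rfl)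
        · exact hy
        · exact hy₁
        · exact hy₂
      have h4 : ({y, y₁, y₂} : Set Y).encard = 3 := by
        rw [Set.encard_insert_of_notMem (by
          rintro (h | h)
          · exact hcon.1 h
          · exact hcon.2 h), Set.encard_pair hne]
        norm_num
      exact h4.symm.le.trans (Set.encard_le_encard h3)
    have hall : ∀ y ∈ G k X C hC Y g x, mp X C hC Y g y = p := by
      intro y hy
      rcases hthree y hy with rfl | rfl
      · exact h1
      · exact h2
    have hu : C = Set.univ := by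
      refine eq_univ X C hC fun q hq => ?_
      obtain ⟨y, hy⟩ := hover q hq.1
      have h3 := hall y (Or.inl (by rw [hy]; exact hmeet q hq))
      rw [← h3, hy] at hpn
      exact hpn hq.2
    have h3 : n = 0 := by
      by_contra hn
      obtain ⟨y, hy⟩ := hover (x ⟨0, Nat.pos_of_ne_zero hn⟩) (by rw [hu]; trivial)
      have h4 := hall y (Or.inr ⟨_, hy.symm⟩)
      rw [hy] at h4
      rw [← h4] at hp
      exact not_isNode k X _ (hsm _).2 hp
    have h4 : Nat.card {x : X // Curv2.IsNode k X x} = 1 := by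
      rw [Nat.card_eq_one_iff_unique]
      refine ⟨⟨?_⟩, ⟨⟨p, hp⟩⟩⟩
      have h5 : ∀ q : X, Curv2.IsNode k X q → q = p := by
        intro q hq
        obtain ⟨y, hy⟩ := hover q (by rw [hu]; trivial)
        have h6 := hall y (Or.inl (by rw [hy]; exact hq))
        rw [← hy, h6]
      rintro ⟨a, ha⟩ ⟨b, hb⟩
      exact Subtype.ext ((h5 a ha).trans (h5 b hb).symm)
    have h5 : (Curv2.genus k X : ℤ) = (Curv2.genus k Y : ℤ) + Nat.card {x : X // Curv2.IsNode k X x} := hgen hu
    rw [h4, hγ0] at h5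
    push_cast at h5
    omega

include hdim hX hY hYdim hV hiso hinj hsm hrat hgn in
/-- Enough special points. -/
theorem exists_points (htwo : ∀ p, Curv2.IsNode k X p → p ∈ C → p ∉ closure Cᶜ →
      ∃ y y' : Y, y ≠ y' ∧ mp X C hC Y g y = p ∧ mp X C hC Y g y' = p) :
    letI : Y.Over (Spec (CommRingCat.of k)) := ⟨mp X C hC Y g ≫ (X ↘ (Spec (CommRingCat.of k)))⟩
    ∃ S : Set Y, S.Finite ∧ (∀ y ∈ S, IsClosed ({y} : Set Y)) ∧
      (∀ y ∈ S, Curv2.IsNode k X (mp X C hC Y g y) ∨ ∃ i, x i = mp X C hC Y g y) ∧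
      0 < 2 * (Curv2.genus k Y : ℤ) - 2 + S.ncard := by
  obtain ⟨N, h1, h2⟩ := le_encard k X hdim hX C hC Y g hY hYdim V hV hiso x hinj hsm hrat hgn htwo
  obtain ⟨S, hS, hSN⟩ := Set.exists_subset_encard_eq h2
  have hfin : S.Finite := Set.finite_of_encard_eq_coe hSN
  refine ⟨S, hfin, fun y hy => isClosed_G k X hdim C hC Y g hYdim x hsm y (hS hy), fun y hy => hS hy, ?_⟩
  have h3 : S.ncard = N := by
    rw [Set.ncard, hSN]
    rfl
  rw [h3]
  exact h1

end K316.StabCount
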