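import Groth.Agent.S14468
import Groth.Agent.CurvSt.K316.NormRed
import Groth.Agent.CurvSt.K316.DerFix
import Groth.Agent.CurvSt.K316.StabCount
import Groth.Agent.Pi1.H386.NormalCurve

/-!
# A stable pointed curve has no derivation vanishing at the marked points
-/

set_option autoImplicit false
universe u
open CategoryTheory CategoryTheory.Limits AlgebraicGeometry TopologicalSpace Opposite IsLocalRing

namespace K316.DerZero

open K324.RDer Groth.Agent

section Restrict

variable {Y Z : Scheme.{u}} (R : RD Z) (j : Y ⟶ Z) [IsOpenImmersion j]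

theorem memImage {W : Y.Opens} {y : Y} (hy : y ∈ W) : j y ∈ j ''ᵁ W := ⟨y, hy, rfl⟩

theorem germ_appIso (W : Y.Opens) (y : Y) (hy : y ∈ W) (t : Γ(Z, j ''ᵁ W)) :
    Y.presheaf.germ W y hy ((j.appIso W).hom t) =
      j.stalkMap y (Z.presheaf.germ (j ''ᵁ W) (j y) (memImage j hy) t) := by
  rw [Scheme.Hom.germ_stalkMap_apply, Scheme.Hom.appIso_hom]
  exact (TopCat.Presheaf.germ_res_apply Y.presheaf _ y hy _)

/-- The restriction of a derivation to an open subscheme. -/
noncomputable def restr : RD Y where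
  d W := ((j.appIso W).hom.hom.toAddMonoidHom).comp ((R.d (j ''ᵁ W)).comp (j.appIso W).inv.hom.toAddMonoidHom)
  mul W a b := by
    change (j.appIso W).hom (R.d _ ((j.appIso W).inv (a * b))) = a * (j.appIso W).hom (R.d _ ((j.appIso W).inv b)) +
      b * (j.appIso W).hom (R.d _ ((j.appIso W).inv a))
    rw [map_mul, R.mul, map_add, map_mul, map_mul]
    have h1 : ∀ c, (j.appIso W).hom ((j.appIso W).inv c) = c := fun c => by
      rw [← CommRingCat.comp_apply, Iso.inv_hom_id]; rfl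
    rw [h1, h1]
  res {U V} h a := by
    change (j.appIso V).hom (R.d _ ((j.appIso V).inv (Y.presheaf.map (homOfLE h).op a))) =
      Y.presheaf.map (homOfLE h).op ((j.appIso U).hom (R.d _ ((j.appIso U).inv a)))
    have h1 : (j.appIso V).inv (Y.presheaf.map (homOfLE h).op a) =
        Z.presheaf.map (homOfLE (j.image_mono h)).op ((j.appIso U).inv a) := by
      have := j.appIso_inv_naturality (homOfLE h).op
      exact congr($this a)
    rw [h1, R.res]
    refine section_ext fun y hy => ?_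
    rw [germ_appIso, K324.NodeNorm.germ_res, K324.NodeNorm.germ_res, germ_appIso]

theorem restr_st (y : Y) (σ : Z.presheaf.stalk (j y)) :
    (restr R j).st y (j.stalkMap y σ) = j.stalkMap y (R.st (j y) σ) := by
  obtain ⟨τ, hτ⟩ : ∃ τ, τ = j.stalkMap y σ := ⟨_, rfl⟩
  obtain ⟨W, hW, t, rfl⟩ := TopCat.Presheaf.exists_germ_eq Y.presheaf τ
  have h1 : ∀ c, (j.appIso W).hom ((j.appIso W).inv c) = c := fun c => by
    rw [← CommRingCat.comp_apply, Iso.inv_hom_id]; rfl
  have h2 : σ = Z.presheaf.germ (j ''ᵁ W) (j y) (memImage j hW) ((j.appIso W).inv t) := by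
    apply (ConcreteCategory.bijective_of_isIso (j.stalkMap y)).1
    rw [← hτ, ← germ_appIso, h1]
  rw [← hτ, RD.st_germ, h2, RD.st_germ, ← germ_appIso]
  rfl

/-- The restriction of a derivation over a base. -/
theorem restr_base {S : Scheme.{u}} (f : Z ⟶ S)
    (h : ∀ (V : S.Opens) (c : Γ(S, V)), R.d (f ⁻¹ᵁ V) (f.app V c) = 0) (V : S.Opens) (c : Γ(S, V)) :
    (restr R j).d ((j ≫ f) ⁻¹ᵁ V) ((j ≫ f).app V c) = 0 := by
  refine section_ext fun y hy => ?_
  rw [← RD.st_germ, map_zero]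
  have hy' : j y ∈ f ⁻¹ᵁ V := hy
  have h1 : Y.presheaf.germ ((j ≫ f) ⁻¹ᵁ V) y hy ((j ≫ f).app V c) =
      j.stalkMap y (Z.presheaf.germ (f ⁻¹ᵁ V) (j y) hy' (f.app V c)) := by
    rw [Scheme.Hom.germ_stalkMap_apply]
    rfl
  rw [h1, restr_st, RD.st_germ, h, map_zero, map_zero]

end Restrict

section Restrict

variable {Y Z : Scheme.{u}} (R : RD Z) (j : Y ⟶ Z) [IsOpenImmersion j]

theorem restr_base' {S : Scheme.{u}} (f : Z ⟶ S) (f' : Y ⟶ S) (hf : j ≫ f = f')
    (h : ∀ (V : S.Opens) (c : Γ(S, V)), R.d (f ⁻¹ᵁ V) (f.app V c) = 0) (V : S.Opens) (c : Γ(S, V)) :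
    (restr R j).d (f' ⁻¹ᵁ V) (f'.app V c) = 0 := by
  subst hf
  exact restr_base R j f h V c

/-- Preserving the maximal ideal of a local ring. -/
def FixSt (R : RD Z) (z : Z) : Prop :=
  ∀ τ ∈ maximalIdeal (Z.presheaf.stalk z), R.st z τ ∈ maximalIdeal (Z.presheaf.stalk z)

theorem fixSt_ofDer {S : Scheme.{u}} {f : Z ⟶ S} {D : OmegaSh.Der f (Coh.structureModule Z)} {z : Z}
    (h : DerFix.Fix D z) : FixSt (RD.ofDer D) z := by
  intro τ hτ
  obtain ⟨N, hN, r, rfl⟩ := TopCat.Presheaf.exists_germ_eq Z.presheaf τ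
  rw [RD.st_germ]
  exact h N hN r hτ

theorem fixSt_restr {y : Y} (h : FixSt R (j y)) : FixSt (restr R j) y := by
  intro τ hτ
  obtain ⟨σ, rfl⟩ := (ConcreteCategory.bijective_of_isIso (j.stalkMap y)).2 τ
  rw [restr_st]
  refine map_nonunit (j.stalkMap y).hom _ (h σ ?_)
  by_contra hσ
  have h1 : IsUnit σ := by
    by_contra h2
    exact hσ h2
  exact hτ (h1.map (j.stalkMap y).hom)

end Restrict

section Smooth

open K324.NodeNorm K324.NodeAlg K324.NodeDer2

variable {X X' : Scheme.{u}} {ν : X' ⟶ X} {U : X.Opens}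

/-- Over a normal point the normalization does nothing. -/
theorem surjective_stalkMap [IsFinite ν] [AlgebraicGeometry.IsReduced X] [IsLocallyNoetherian X]
    (hX' : Pi1.IsNormalScheme X') (hU : Dense (U : Set X)) (hU' : Dense ((ν ⁻¹ᵁ U : X'.Opens) : Set X'))
    (hν : IsIso (ν ∣_ U)) (w : X') (h1 : IsDomain (X.presheaf.stalk (ν w)))
    (h2 : IsIntegrallyClosed (X.presheaf.stalk (ν w))) : Function.Surjective (ν.stalkMap w) := by
  have hdom := (hX' w).1
  obtain ⟨V, hV, hxV, -⟩ := exists_isAffineOpen_mem_and_subset (x := ν w) (U := ⊤) trivial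
  have hwV : w ∈ ν ⁻¹ᵁ V := hxV
  have key : ∀ b : Γ(X', ν ⁻¹ᵁ V), ∃ β, ν.stalkMap w β = X'.presheaf.germ _ w hwV b := by
    intro b
    obtain ⟨s, a, hs, h⟩ := exists_den hU hν hV b
    have hs' := germ_mem_nonZeroDivisors hV hs (ν w) hxV
    obtain ⟨β, hβ⟩ := (intPair_germ hU hν hV h (ν w) hxV).exists_of_isIntegrallyClosed (nonZeroDivisors.ne_zero hs')
    refine ⟨β, ?_⟩
    apply mul_left_cancel₀ (germ_app_ne_zero hU' hν hV hs w hwV)
    rw [← map_mul, h, germ_app, germ_app, ← map_mul]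
    exact (congrArg (ν.stalkMap w) hβ).symm
  intro τ
  obtain ⟨b, g, γ, e1, rfl⟩ := exists_frac hV w hwV τ
  obtain ⟨β, hβ⟩ := key b
  obtain ⟨δ, hδ⟩ := key g
  have hu : IsUnit δ := by
    rw [← isUnit_map_iff (ν.stalkMap w).hom]
    exact isUnit_iff_exists_inv.2 ⟨γ, by rw [← e1, ← hδ]⟩
  obtain ⟨ε, hε⟩ := hu.exists_right_inv
  refine ⟨β * ε, ?_⟩
  have h3 : X'.presheaf.germ _ w hwV g * ν.stalkMap w ε = 1 := by
    rw [← hδ, ← map_mul, hε, map_one]
  have h4 : ν.stalkMap w ε = γ := by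
    calc ν.stalkMap w ε = ν.stalkMap w ε * (X'.presheaf.germ _ w hwV g * γ) := by rw [e1, mul_one]
      _ = (X'.presheaf.germ _ w hwV g * ν.stalkMap w ε) * γ := by ring
      _ = γ := by rw [h3, one_mul]
  rw [map_mul, hβ, h4]

variable {S : Scheme.{u}} (q : X ⟶ S) (D : OmegaSh.Der q (Coh.structureModule X))
  (D' : OmegaSh.Der (ν ≫ q) (Coh.structureModule X'))
  (hD' : ∀ (V : X.Opens) (s : Γ(X, V)),
          OmegaSh.fnSect X' (ν ⁻¹ᵁ V) (D'.app (ν ⁻¹ᵁ V) (ν.app V s)) = ν.app V (OmegaSh.fnSect X V (D.app V s)))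

include hD' in
theorem st_stalkMap (w : X') (σ : X.presheaf.stalk (ν w)) :
    (RD.ofDer D').st w (ν.stalkMap w σ) = ν.stalkMap w ((RD.ofDer D).st (ν w) σ) := by
  obtain ⟨V, hV, s, rfl⟩ := TopCat.Presheaf.exists_germ_eq X.presheaf σ
  have hV' : w ∈ ν ⁻¹ᵁ V := hV
  rw [RD.st_germ, ← germ_app w hV', ← germ_app w hV', RD.st_germ]
  exact congrArg (X'.presheaf.germ (ν ⁻¹ᵁ V) w hV') (hD' V s)

include hD' in
theorem fixSt_of_surjective (w : X') (hs : Function.Surjective (ν.stalkMap w)) (h : FixSt (RD.ofDer D) (ν w)) :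
    FixSt (RD.ofDer D') w := by
  intro τ hτ
  obtain ⟨σ, rfl⟩ := hs τ
  rw [st_stalkMap q D D' hD']
  refine map_nonunit (ν.stalkMap w).hom _ (h σ ?_)
  by_contra hσ
  have h1 : IsUnit σ := by
    by_contra h2
    exact hσ h2
  exact hτ (h1.map (ν.stalkMap w).hom)

end Smooth

theorem der_eq_zero' (k : Type u) [Field k] [IsAlgClosed k] {X : Scheme.{u}} (f : X ⟶ Spec (CommRingCat.of k))
    [IsProper f] [Smooth f] [IsIntegral X]
    (hdim : topologicalKrullDim X = 1) (S : Set X) (hS : S.Finite) (hcl : ∀ x ∈ S, IsClosed ({x} : Set X))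
    (hg : letI : X.Over (Spec (CommRingCat.of k)) := ⟨f⟩; 0 < 2 * (Curv2.genus k X : ℤ) - 2 + S.ncard)
    (D : OmegaSh.Der f (Coh.structureModule X)) (hD : ∀ x ∈ S, DerFix.Fix D x)
    (U : X.Opens) (s : Γ(X, U)) : D.app U s = 0 := by
  let _ : X.Over (Spec (CommRingCat.of k)) := ⟨f⟩
  have h1 : IsProper (X ↘ (Spec (CommRingCat.of k))) := ‹IsProper f›
  have h2 : Smooth (X ↘ (Spec (CommRingCat.of k))) := ‹Smooth f›
  exact DerFix.der_eq_zero k hdim S hS hcl hg D hD U s

/-- **A stable pointed curve has no derivation vanishing at the marked points.** -/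
theorem der_eq_zero_of_isStablePtd {k : Type u} [Field k] [IsAlgClosed k] {X : Scheme.{u}}
    (q : X ⟶ Spec (CommRingCat.of k)) (g n : ℕ) (x : Fin n → X) (h : CurvSt.IsStablePtd k X q g x)
    (D : OmegaSh.Der q (Coh.structureModule X))
    (hD : ∀ (i : Fin n) (W : X.Opens) (hx : x i ∈ W) (t : Γ(X, W)),
      X.presheaf.germ W _ hx t ∈ maximalIdeal (X.presheaf.stalk (x i)) →
      X.presheaf.germ W _ hx (OmegaSh.fnSect X W (D.app W t)) ∈ maximalIdeal (X.presheaf.stalk (x i))) :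
    ∀ (U : X.Opens) (s : Γ(X, U)), D.app U s = 0 := by
  let _ : X.Over (Spec (CommRingCat.of k)) := ⟨q⟩
  obtain ⟨hprop, hconn, hdim, ⟨hX, hg⟩, hinj, hsm, hrat, hgn⟩ := h
  have hprop' : IsProper (X ↘ (Spec (CommRingCat.of k))) := hprop
  have hred : AlgebraicGeometry.IsReduced X := K324.NodeNorm.isReduced_of_atWorstNodal X k hX
  have hN : AlgebraicGeometry.IsNoetherian X := Groth.Agent.CurvesC.CurveCoh.noetherianSpace k X
  obtain ⟨Y, g', hfin, hsurj, hint, hnorm, hdimY, hV, hνfin, hνnorm, U₀, hU, hU', hiso⟩ :=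
    NormRed.exists_normalization k q
  obtain ⟨D', hD', -, hnode⟩ :=
    (S14468.result k X hdim hX (∐ Y) (NormRed.nu Y g') hνnorm U₀ hU hU' hiso).1 D
  have hpt : ∀ w : (∐ Y : Scheme.{u}), (Curv2.IsNode k X (NormRed.nu Y g' w) ∨ ∃ i, x i = NormRed.nu Y g' w) →
      FixSt (RD.ofDer D') w := by
    rintro w (hw | ⟨i, hi⟩)
    · exact fixSt_ofDer (hnode w hw)
    · have h1 := CurvesB.NodeSch2.isRegularLocalRing_of_exists k _ (hsm i).2
      rw [hi] at h1
      refine fixSt_of_surjective q D D' hD' w (surjective_stalkMap hνnorm hU hU' hiso w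
        (Groth.Agent.CurvesC.RegNormal.isDomain _) (Groth.Agent.CurvesC.RegNormal.isIntegrallyClosed _)) ?_
      rw [← hi]
      exact fixSt_ofDer (hD i)
  have hzero : ∀ (C : irreducibleComponents (X : Type u)) (y : Y C) (σ : (∐ Y : Scheme.{u}).presheaf.stalk
      (Sigma.ι Y C y)), (RD.ofDer D').st (Sigma.ι Y C y) σ = 0 := by
    intro C y σ
    have := hfin C
    have := hsurj C
    have := hint C
    obtain ⟨V, hVne, hViso⟩ := hV C
    have hj : Sigma.ι Y C ≫ (NormRed.nu Y g' ≫ q) = StabCount.mp X C.1 C.2 (Y C) (g' C) ≫ q := by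
      rw [← Category.assoc, Sigma.ι_desc]
    have hνj : ∀ y : Y C, NormRed.nu Y g' (Sigma.ι Y C y) = StabCount.mp X C.1 C.2 (Y C) (g' C) y := by
      intro y
      rw [← Scheme.Hom.comp_apply, Sigma.ι_desc]
    have hYdim : topologicalKrullDim (Y C) = 1 := by
      rw [hdimY C]
      exact Groth.Agent.CurvesC.TailMain.pure_of_connected X hdim C.1 C.2
    have hP : IsProper (StabCount.mp X C.1 C.2 (Y C) (g' C) ≫ q) := inferInstance
    have hSm : Smooth (StabCount.mp X C.1 C.2 (Y C) (g' C) ≫ q) :=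
      Groth.Agent.Pi1.H386.NormalCurve.smooth_of_normal k _ (hnorm C) hYdim.le
    obtain ⟨S, hS1, hS2, hS3, hS4⟩ := StabCount.exists_points k X hdim hX C.1 C.2 (Y C) (g' C) (hnorm C) hYdim V
      hVne hViso x hinj hsm (hrat C.1) (by
        have h3 : Curv2.genus k X = g := hg
        rw [h3]; exact hgn) (by
        intro p hp hpC hpn
        obtain ⟨w, w', hne, hw, hw'⟩ := NodeFib.exists_two k hνnorm hU hU' hiso p hp
        have hthis : ∀ w : (∐ Y : Scheme.{u}), NormRed.nu Y g' w = p → ∃ y : Y C, Sigma.ι Y C y = w := by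
          intro w hw
          obtain ⟨E, y₀, rfl⟩ := (sigmaOpenCover Y).exists_eq w
          have h1 : p ∈ E.1 := by
            rw [← hw, ← NormRed.range_mp Y g' E]
            refine ⟨y₀, ?_⟩
            change _ = NormRed.nu Y g' (Sigma.ι Y E y₀)
            rw [← Scheme.Hom.comp_apply, Sigma.ι_desc]
          have h2 : E = C := by
            by_contra hEC
            exact hpn ((K896.CompMeet.mem_closure_compl_iff C.2 p).2 ⟨E.1, E.2, fun h => hEC (Subtype.ext h), h1⟩)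
          subst h2
          exact ⟨y₀, rfl⟩
        obtain ⟨y, rfl⟩ := hthis w hw
        obtain ⟨y', rfl⟩ := hthis w' hw'
        exact ⟨y, y', fun h => hne (by rw [h]), by rw [← hνj, hw], by rw [← hνj, hw']⟩)
    have hbase := restr_base' (RD.ofDer D') (Sigma.ι Y C) (NormRed.nu Y g' ≫ q) _ hj
      (fun V c => RD.ofDer_base D' V c)
    have hvan := der_eq_zero' k (StabCount.mp X C.1 C.2 (Y C) (g' C) ≫ q) hYdim S hS1 hS2 hS4
      ((restr (RD.ofDer D') (Sigma.ι Y C)).toDer _ hbase) (fun y hy => by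
        have h1 : FixSt (restr (RD.ofDer D') (Sigma.ι Y C)) y := by
          apply fixSt_restr
          apply hpt
          rw [hνj]
          exact hS3 y hy
        intro W hyW t ht
        have h2 := h1 _ ht
        rw [RD.st_germ] at h2
        exact h2)
    have h4 : (restr (RD.ofDer D') (Sigma.ι Y C)).st y ((Sigma.ι Y C).stalkMap y σ) = 0 := by
      obtain ⟨W, hW, t, ht⟩ := TopCat.Presheaf.exists_germ_eq (Y C).presheaf ((Sigma.ι Y C).stalkMap y σ)
      rw [← ht, RD.st_germ]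
      have h5 : (restr (RD.ofDer D') (Sigma.ι Y C)).d W t = 0 := hvan W t
      rw [h5, map_zero]
    rw [restr_st] at h4
    apply (ConcreteCategory.bijective_of_isIso ((Sigma.ι Y C).stalkMap y)).1
    rw [h4, map_zero]
  intro V s
  have h1 : OmegaSh.fnSect X V (D.app V s) = 0 := by
    apply K324.NodeNorm.injective_app hU hiso V
    refine Eq.trans (hD' V s).symm ?_
    rw [map_zero]
    refine section_ext fun w hw => ?_
    obtain ⟨C, y, rfl⟩ := (sigmaOpenCover Y).exists_eq w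
    have h2 := hzero C y ((∐ Y : Scheme.{u}).presheaf.germ (NormRed.nu Y g' ⁻¹ᵁ V) (Sigma.ι Y C y) hw
      (NormRed.nu Y g' |>.app V s))
    rw [RD.st_germ] at h2
    rw [map_zero]
    exact h2
  exact h1

end K316.DerZero
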