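import Groth.Agent.CurvSt.K316.RelDescA
import Groth.Agent.CurvSt.K316.DerZero
import Groth.Agent.CurvSt.K333.StableOpen
import Groth.Agent.CurvSt.K898.MbarEq
import Groth.Agent.CurvSt.K898.UnrPt
import Groth.Agent.CurvSt.K898.OpenSm
import Groth.Agent.CurvSt.K310.ExistsCurve
import Groth.Agent.CurvSt.K740.CurvAlgFin

import Groth.Agent.AlgSt.K738.Aut3
import Groth.Agent.AgPol.K533.GeomAmple

/-!
# Algebraicity of the stacks of stable and of smooth pointed curves

* `isAlgStack_curves` : `Curves S n` is an algebraic stack.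
* `exists_isRelAmple` : a stable pointed family over an affine base carries a relatively ample invertible module.
* `hasOpenLocus_stable`, `isOpenSubstack_stable`, `isAlgStack_mbar`, `isAlgStack_mbar_etale`.
* `isDMOver_mbar`, `isDM_mbar`.
-/

set_option autoImplicit false
set_option backward.isDefEq.respectTransparency false
set_option backward.isDefEq.respectTransparency.types false
universe u
open CategoryTheory CategoryTheory.Limits AlgebraicGeometry Opposite AlgSp CurvSt

namespace K316.MbarAlg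

open K316.RelDescA K901.GeomFibAt K901.SchLoc K901.SchPre K333.StableOpen Groth.Agent

/-- The stack of curves is algebraic. -/
theorem isAlgStack_curves (S : Scheme.{u}) (n : ℕ) : AlgSt.IsAlgStack Scheme.fppfPrecoverage (Curves S n) :=
  K740.CurvAlg.isAlgStack_curves S n

/-- A stable pointed family over an affine base carries a relatively ample invertible module. -/
theorem exists_isRelAmple {C T : Scheme.{u}} [IsAffine T] (f : C ⟶ T) {n : ℕ} (σ : Fin n → (T ⟶ C))
    (hσ : ∀ j, σ j ≫ f = 𝟙 T) {g : ℕ} (hg : 3 ≤ 2 * g + n) (h : IsStableFam f σ hσ g) :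
    ∃ L : C.Modules, PicF.IsInvertible L ∧ RelAmple.IsRelAmple f L := by
  have h1 : Flat f := h.1
  have h2 : IsProper f := h.2.1
  have h3 : LocallyOfFinitePresentation f := h.2.2.1
  let u : Spec Γ(T, ⊤) ⟶ T := T.isoSpec.inv
  have hsq : IsPullback (pullback.fst f u) (pullback.snd f u) f u := IsPullback.of_hasPullback f u
  have i1 : Flat (pullback.snd f u) := MorphismProperty.of_isPullback hsq inferInstance
  have i2 : LocallyOfFinitePresentation (pullback.snd f u) := MorphismProperty.of_isPullback hsq inferInstance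
  have i3 : IsProper (pullback.snd f u) := MorphismProperty.of_isPullback hsq inferInstance
  have hpre : ∀ s', s' ∈ preSet (pullback.snd f u) (bsec f σ hσ u) g := by
    intro s'
    obtain ⟨Ω, _, _, t', ht'⟩ := K901.GeomLoc.exists_geomPt s'
    have hP' := IsPullback.of_hasPullback (pullback.snd f u) t'
    have hP := hP'.paste_horiz hsq
    have h4 := markedPt_bsec f σ hσ u hP' hP rfl rfl
    have h5 := isPrestablePtd_iff (pullback.snd f u) (bsec f σ hσ u) (bsec_snd f σ hσ u) g hP'
    rw [h4, ht'] at h5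
    have h6 := h.2.2.2 Ω _ _ _ _ hP
    exact h5.1 ⟨h6.1, h6.2.1, h6.2.2.1, h6.2.2.2.1, h6.2.2.2.2.1, h6.2.2.2.2.2.1⟩
  obtain ⟨M, hM, H⟩ := K333.FamTw.exists_twist (pullback.snd f u) (bsec f σ hσ u) (bsec_snd f σ hσ u) hg hpre
  have hamp : RelAmple.IsRelAmple (pullback.snd f u) M := by
    refine K533.GeomAmple.isRelAmple_of_geom (pullback.snd f u) M hM fun Ω _ _ t => ?_
    have hP' := IsPullback.of_hasPullback (pullback.snd f u) t
    have hP := hP'.paste_horiz hsq
    refine (H Ω t _ _ _ hP').1 ?_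
    rw [markedPt_bsec f σ hσ u hP' hP rfl rfl]
    exact h.2.2.2 Ω _ _ _ _ hP
  have hinv : IsPullback (inv (pullback.fst f u)) f (pullback.snd f u) (inv u) :=
    IsPullback.of_horiz_isIso ⟨by
      rw [IsIso.inv_comp_eq, ← Category.assoc, pullback.condition, Category.assoc, IsIso.hom_inv_id,
        Category.comp_id]⟩
  exact ⟨_, PerfB.LimMod.isInvertible_pullback _ hM,
    K119.RelAmpInd.isRelAmple_of_isPullback hinv hamp⟩

variable {S : Scheme.{u}} {n : ℕ}

theorem hasOpenLocus_stable (S : Scheme.{u}) (g n : ℕ) :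
    K899.OpenCrit.HasOpenLocus (𝒳 := Curves S n) (fun A => SpIsStablePtd A.obj g) :=
  K901.EtSch.hasOpenLocus (extDesc_stable n g) (fun A => K902.EtSchFin.etLocSch A.property) fun B h1 h2 h3 _ => by
    rw [locus_toSpFam]
    exact isOpen_stable B.f B.sect B.sect_f g

theorem openLocus_stable (S : Scheme.{u}) (g n : ℕ) :
    K901.OpenSub.OpenLocus (Curves S n) (fun A => SpIsStablePtd A.obj g) := fun A => by
  obtain ⟨U, hU⟩ := hasOpenLocus_stable S g n A
  exact ⟨U, fun B φ => hU B φ⟩

/-- Stable pointed families form an open substack of the stack of all pointed curves. -/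
theorem isOpenSubstack_stable (S : Scheme.{u}) (g n : ℕ) :
    AlgSt.IsOpenSubstack (Curves S n) (fun A => SpIsStablePtd A.obj g) Scheme.fppfPrecoverage :=
  K899.OpenCrit.isOpenSubstack (isAlgStack_curves S n) (hasOpenLocus_stable S g n)

theorem matchStable (S : Scheme.{u}) {g n : ℕ} (hg : 3 ≤ 2 * g + n) :
    Match (S := S) (n := n) (fun B => IsStableFam B.f B.sect B.sect_f g) (fun A => SpIsStablePtd A.obj g) where
  isCurveFam := K898.MbarEq.isCurveFam_of_stable
  toQ B h := (K903.GeomFib.geomFib_toSpFam_iff _ B).2 h.2.2.2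
  ofQ B hc h := by
    obtain ⟨h1, h2, h3, -⟩ := K898.MbarEq.facts B hc
    exact ⟨h1, h2, h3, (K903.GeomFib.geomFib_toSpFam_iff _ B).1 h⟩
  stable A B φ h := K898.MbarEq.geomFib_of_hom φ.hom h
  ample B h _ := by
    obtain ⟨L, -, hL⟩ := exists_isRelAmple B.f B.sect B.sect_f hg h
    exact ⟨L, hL⟩

/-- `Mbar S g n` is equivalent to the open substack of stable curves in the stack of all curves. -/
theorem isEquivOver_mbar (S : Scheme.{u}) {g n : ℕ} (hg : 3 ≤ 2 * g + n) :
    FibCat.IsEquivOver (RelDescA.comp (matchStable S hg)) :=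
  isEquivOver_comp _ (fun A => K902.EtSchFin.etLocSch A.property) K898.MbarEq.isCurveFam_of_hom

/-- **The stack of stable pointed curves is algebraic.** -/
theorem isAlgStack_mbar (S : Scheme.{u}) {g n : ℕ} (hg : 3 ≤ 2 * g + n) :
    AlgSt.IsAlgStack Scheme.fppfPrecoverage (Mbar S g n) :=
  (K740.Inv.isAlgStack_iff _ (isEquivOver_mbar S hg)).2 (isOpenSubstack_stable S g n).2.1

theorem isAlgStack_mbar_etale (S : Scheme.{u}) {g n : ℕ} (hg : 3 ≤ 2 * g + n) :
    AlgSt.IsAlgStack Scheme.etalePrecoverage (Mbar S g n) :=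
  K738.AutDM.isAlgStack_etale (isAlgStack_mbar S hg)

/-- The diagonal of the stack of stable pointed curves is unramified. -/
theorem isDMOver_mbar (S : Scheme.{u}) {g n : ℕ} (hg : 3 ≤ 2 * g + n) : AlgSt.IsDMOver (Mbar S g n) := by
  refine K898.UnrPt.isDMOver_mbar S ?_ (isAlgStack_mbar S hg)
  intro k _ _ X q x h D hD
  exact K316.DerZero.der_eq_zero_of_isStablePtd q g n x h D hD

/-- **The stack of stable pointed curves is Deligne-Mumford.** -/
theorem isDM_mbar (S : Scheme.{u}) {g n : ℕ} (hg : 3 ≤ 2 * g + n) :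
    AlgSt.IsDM Scheme.etalePrecoverage (Mbar S g n) :=
  K738.AutDM.isDM_etale_of_isDMOver (isAlgStack_mbar S hg) (isDMOver_mbar S hg)

/-! ### smooth pointed curves -/

theorem matchSmooth (S : Scheme.{u}) {g n : ℕ} (hg : 3 ≤ 2 * g + n) :
    Match (S := S) (n := n) (fun B => IsSmoothPtdFam B.f B.sect g) (fun A => K898.MbarEq.SpIsSmoothPtd A.obj g) where
  isCurveFam := K898.MbarEq.isCurveFam_of_smooth
  toQ B h := by
    refine ⟨K899.CurveFam.locP_smooth B.fOver h.1.1, (K903.GeomFib.geomFib_toSpFam_iff _ B).2 ?_⟩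
    intro Ω _ _ t X' i q hP
    have h3 : GeometricallyIrreducible B.f := h.1.2.2.1
    have hirr : IrreducibleSpace X' :=
      GeometricallyIrreducible.geometrically_irreducibleSpace (f := B.f) _ _ _ hP
    obtain ⟨h4, h5⟩ := h.1.2.2.2 Ω t X' i q hP
    exact ⟨hirr, h4, h5, K898.MbarEq.markedPt_injective_iff.1 h.2 Ω t X' i q hP⟩
  ofQ B hc h := by
    obtain ⟨h1, h2, h3, -⟩ := K898.MbarEq.facts B hc
    have h4 := (K903.GeomFib.geomFib_toSpFam_iff _ B).1 h.2
    have h5 : Smooth B.f := K901.SchFib.locP_of_isPullback (q := B.fOver) K597.etLoc_smooth hc.1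
      (IsAlgSpace.yon_obj _) h.1 (K898.MbarEq.isPullback_id B)
    refine ⟨⟨h5, h2, K898.MbarEq.geometricallyIrreducible_of _ fun Ω _ _ t X i q hP => (h4 Ω t X i q hP).1,
      fun Ω _ _ t X i q hP => ⟨(h4 Ω t X i q hP).2.1, (h4 Ω t X i q hP).2.2.1⟩⟩,
      K898.MbarEq.markedPt_injective_iff.2 fun Ω _ _ t X i q hP => (h4 Ω t X i q hP).2.2.2⟩
  stable A B φ h := ⟨K597.locP_bc K597.etLoc_smooth φ.hom.cart B.property.1.hasAtlas
    (IsAlgSpace.yon_obj B.obj.base).hasAtlas (IsAlgSpace.yon_obj A.obj.base).hasAtlas h.1,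
    K898.MbarEq.geomFib_of_hom φ.hom h.2⟩
  ample B h _ := by
    obtain ⟨L, -, hL⟩ := exists_isRelAmple B.f B.sect B.sect_f hg
      (K310.ExistsCurve.isStableFam_of_isSmoothPtdFam B.sect B.sect_f h hg)
    exact ⟨L, hL⟩

theorem openLocus_smooth (S : Scheme.{u}) (g n : ℕ) :
    K901.OpenSub.OpenLocus (Curves S n) (fun A => K898.MbarEq.SpIsSmoothPtd A.obj g) :=
  K898.OpenSm.openLocus_smooth g fun A => K902.EtSchFin.etLocSch A.property

/-- `Mgn S g n` is equivalent to the open substack of smooth pointed curves in the stack of all curves. -/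
theorem isEquivOver_mgn (S : Scheme.{u}) {g n : ℕ} (hg : 3 ≤ 2 * g + n) :
    FibCat.IsEquivOver (RelDescA.comp (matchSmooth S hg)) :=
  isEquivOver_comp _ (fun A => K902.EtSchFin.etLocSch A.property) K898.MbarEq.isCurveFam_of_hom

/-- **The stack of smooth pointed curves is algebraic.** -/
theorem isAlgStack_mgn (S : Scheme.{u}) {g n : ℕ} (hg : 3 ≤ 2 * g + n) :
    AlgSt.IsAlgStack Scheme.fppfPrecoverage (Mgn S g n) :=
  (K740.Inv.isAlgStack_iff _ (isEquivOver_mgn S hg)).2
    (K901.OpenSub.isOpenSubstack_fppf (isAlgStack_curves S n) (openLocus_smooth S g n)).2.1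

/-- The diagonal of the stack of smooth pointed curves is unramified. -/
theorem isDMOver_mgn (S : Scheme.{u}) {g n : ℕ} (hg : 3 ≤ 2 * g + n) : AlgSt.IsDMOver (Mgn S g n) := by
  refine K898.UnrPt.isDMOver_fullSub_pt (isAlgStack_mgn S hg) (fun B hB => ?_) ?_
  · have := hB.1.1
    infer_instance
  · intro B hB Ω _ _ t Y j y hP D hD
    have h := K310.ExistsCurve.isStableFam_of_isSmoothPtdFam B.sect B.sect_f hB hg
    exact K316.DerZero.der_eq_zero_of_isStablePtd y g n _ (h.2.2.2 Ω t Y j y hP) D hD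

/-- **The stack of smooth pointed curves is Deligne-Mumford.** -/
theorem isDM_mgn (S : Scheme.{u}) {g n : ℕ} (hg : 3 ≤ 2 * g + n) :
    AlgSt.IsDM Scheme.etalePrecoverage (Mgn S g n) :=
  K738.AutDM.isDM_etale_of_isDMOver (isAlgStack_mgn S hg) (isDMOver_mgn S hg)

end K316.MbarAlg
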