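import Groth.Agent.CurvSt.K333.StableOpen

/-!
# A stable pointed curve over an algebraically closed field is a stable family over the spectrum of that field

* `isStableFam`: the fibre condition on the curve itself gives it on all geometric fibres.
-/

set_option autoImplicit false
universe u
open CategoryTheory CategoryTheory.Limits AlgebraicGeometry IsLocalRing CurvSt

namespace K316.FieldFam

open K901.SchLoc K333.StableOpen

theorem markedPt_id {k : Type u} [Field k] {C : Scheme.{u}} (f : C ⟶ Spec (CommRingCat.of k)) {n : ℕ}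
    (τ : Fin n → (Spec (CommRingCat.of k) ⟶ C)) (hτ : ∀ i, τ i ≫ f = 𝟙 _)
    (hP : IsPullback (𝟙 C) f f (𝟙 (Spec (CommRingCat.of k)))) (j : Fin n) :
    markedPt τ hτ hP j = (τ j).base (closedPoint k) := by
  have h : hP.lift (𝟙 _ ≫ τ j) (𝟙 _) (by rw [Category.assoc, hτ, Category.comp_id]) = τ j := by
    apply hP.hom_ext
    · rw [hP.lift_fst, Category.id_comp, Category.comp_id]
    · rw [hP.lift_snd, hτ]
  unfold markedPt
  rw [h]

/-- A stable pointed curve over an algebraically closed field `k` is a stable family over `Spec k`. -/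
theorem isStableFam {k : Type u} [Field k] [IsAlgClosed k] {C : Scheme.{u}} (f : C ⟶ Spec (CommRingCat.of k)) (n g : ℕ)
    (τ : Fin n → (Spec (CommRingCat.of k) ⟶ C)) (hτ : ∀ i, τ i ≫ f = 𝟙 _)
    (h : IsStablePtd k C f g (fun i => (τ i).base (closedPoint k))) : IsStableFam f τ hτ g := by
  have hp : IsProper f := h.1
  have hfl : Flat f := inferInstance
  have hlfp : LocallyOfFinitePresentation f := inferInstance
  have hP : IsPullback (𝟙 C) f f (𝟙 (Spec (CommRingCat.of k))) := IsPullback.of_horiz_isIso ⟨by simp⟩
  have h' : IsStablePtd k C f g (markedPt τ hτ hP) := by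
    have : markedPt τ hτ hP = fun i => (τ i).base (closedPoint k) := funext fun j => markedPt_id f τ hτ hP j
    rw [this]
    exact h
  have h1 := (isStablePtd_iff f τ hτ g hP).1 h'
  refine ⟨hfl, hp, hlfp, fun Ω _ _ t X i q hQ => (isStablePtd_iff f τ hτ g hQ).2 ?_⟩
  convert h1 using 1
  exact Subsingleton.elim _ _

end K316.FieldFam
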