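import Groth.Agent.Curves.K321.DeltaSum
import Groth.Agent.Curves.K324.NodeNorm
import Groth.Agent.Curves.K830.NodeNorm
import Groth.Agent.Models.H74.H0Card
import Groth.Agent.CurvesC.CurveCoh
import Groth.Agent.CurvesB.CurveRR
import Groth.Agent.CurvesB.NodeCriterion
import Groth.Agent.Fixpt.H587.NormFib

/-!
# The genus of the normalization of a nodal curve
-/

set_option autoImplicit false
universe u
open CategoryTheory CategoryTheory.Limits AlgebraicGeometry TopologicalSpace

namespace K316.GenusNode

open Groth.Agent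

open Classical in
theorem finsum_ite {α : Type*} (N : Set α) : ∑ᶠ x, (if x ∈ N then (1 : ℤ) else 0) = (Nat.card N : ℤ) := by
  by_cases hN : N.Finite
  · have h1 : ∑ᶠ x, (if x ∈ N then (1 : ℤ) else 0) = ∑ x ∈ hN.toFinset, (if x ∈ N then (1 : ℤ) else 0) := by
      refine finsum_eq_sum_of_support_subset _ fun x hx => ?_
      rw [Set.Finite.coe_toFinset]
      by_contra h
      exact hx (if_neg h)
    rw [h1, Finset.sum_congr rfl fun x hx => if_pos (hN.mem_toFinset.1 hx)]
    rw [Nat.card_coe_set_eq, Set.ncard_eq_toFinset_card N hN]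
    simp
  · have h1 : (Function.support fun x => (if x ∈ N then (1 : ℤ) else 0)) = N := by
      ext x
      by_cases h : x ∈ N <;> simp [h]
    have h2 : Infinite N := Set.infinite_coe_iff.2 hN
    rw [finsum_of_infinite_support (by rw [h1]; exact hN), Nat.card_eq_zero_of_infinite]
    rfl

attribute [local instance] Curv2.resAlgebra

theorem finrank_res (k : Type u) [Field k] [IsAlgClosed k] (X : Scheme.{u}) [X.Over (Spec (CommRingCat.of k))]
    [LocallyOfFiniteType (X ↘ (Spec (CommRingCat.of k)))] (x : X) (hx : IsClosed ({x} : Set X)) :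
    Module.finrank k (X.residueField x) = 1 := by
  have h1 := (Groth.Agent.CurvesB.Node.isClosed_iff_finite (X ↘ (Spec (CommRingCat.of k))) x).mp hx
  have h2 : Module.Finite k (X.residueField x) := h1
  have h3 : Function.Bijective (algebraMap k (X.residueField x)) :=
    IsAlgClosed.algebraMap_bijective_of_isIntegral
  exact (LinearEquiv.finrank_eq (LinearEquiv.ofBijective (Algebra.linearMap k (X.residueField x)) h3)).symm.trans
    (Module.finrank_self k)

open Classical in
theorem genus_formula (k : Type u) [Field k] [IsAlgClosed k]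
    (C : Scheme.{u}) [C.Over (Spec (CommRingCat.of k))] [IsProper (C ↘ (Spec (CommRingCat.of k)))] [ConnectedSpace C]
    (hdim : ∀ Z ∈ irreducibleComponents (C : Type u), topologicalKrullDim Z = 1) (hC : Curv2.AtWorstNodal k C)
    (C' : Scheme.{u}) (π : C' ⟶ C) [IsFinite π] (hC' : Pi1.IsNormalScheme C')
    (U : C.Opens) (hU : Dense (U : Set C)) (hU' : Dense ((π ⁻¹ᵁ U : C'.Opens) : Set C')) (hπU : IsIso (π ∣_ U)) :
    letI : C'.Over (Spec (CommRingCat.of k)) := ⟨π ≫ (C ↘ (Spec (CommRingCat.of k)))⟩
    (Curv2.genus k C : ℤ) + Nat.card (_root_.ConnectedComponents C') =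
      (Curv2.genus k C' : ℤ) + Nat.card {x : C // Curv2.IsNode k C x} + 1 := by
  let _ : C'.Over (Spec (CommRingCat.of k)) := ⟨π ≫ (C ↘ (Spec (CommRingCat.of k)))⟩
  have hP' : IsProper (C' ↘ (Spec (CommRingCat.of k))) :=
    inferInstanceAs (IsProper (π ≫ (C ↘ (Spec (CommRingCat.of k)))))
  have hred : AlgebraicGeometry.IsReduced C := K324.NodeNorm.isReduced_of_atWorstNodal C k hC
  have hred' : AlgebraicGeometry.IsReduced C' := K321.DeltaGeo.isReduced_of_isNormal hC'
  have hN : AlgebraicGeometry.IsNoetherian C := Groth.Agent.CurvesC.CurveCoh.noetherianSpace k C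
  have hd1 : topologicalKrullDim C ≤ 1 := CurvesB.NodeSch2.topologicalKrullDim_le_one_of_components hdim
  have E := K321.DeltaSum.euler_eq k C hdim C' π hC' U hU hU'
  have hsum : ∑ᶠ x : C, (if IsClosed ({x} : Set C) then
          ((Module.finrank k (C.residueField x) : ℤ) * ((Curv2.deltaInv (C.presheaf.stalk x)).toNat : ℤ)) else 0) =
        (Nat.card {x : C // Curv2.IsNode k C x} : ℤ) := by
    have h1 := finsum_ite {x : C | Curv2.IsNode k C x}
    refine Eq.trans (finsum_congr fun x => ?_) h1
    by_cases hx : IsClosed ({x} : Set C)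
    · rw [if_pos hx, finrank_res k C x hx]
      by_cases hn : Curv2.IsNode k C x
      · rw [if_pos (show x ∈ {x : C | Curv2.IsNode k C x} from hn)]
        have h2 := ((Groth.Agent.CurvesB.Node.isNode_iff_resFS k C x).1 hn).2
        rw [K830.NodeNorm.deltaInv_eq_one h2]
        simp
      · rw [if_neg (show x ∉ {x : C | Curv2.IsNode k C x} from hn)]
        obtain ⟨h2, h3⟩ := (K324.NodeNorm.normal_or_node C k hd1 hC x).resolve_right hn
        rw [(K421.NormCl.deltaInv_eq_zero_iff _).2 h3]
        simp
    · rw [if_neg hx, if_neg]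
      exact fun hn => hx hn.1
  rw [hsum] at E
  have e1 := Groth.Agent.CurvesB.CurveRR.euler_eq k C hd1 (Coh.structureModule C)
  have hN' : AlgebraicGeometry.IsNoetherian C' := Groth.Agent.CurvesC.CurveCoh.noetherianSpace k C'
  have hd1' : topologicalKrullDim C' ≤ 1 :=
    (Groth.Agent.Fixpt.H587.NormFib.topologicalKrullDim_le_of_isIntegralHom π).trans hd1
  have e2 := Groth.Agent.CurvesB.CurveRR.euler_eq k C' hd1' (Coh.structureModule C')
  have f1 := (Groth.Agent.Models.H74.H0Card.finite_and_finrank k (Z := C)).2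
  have f2 := (Groth.Agent.Models.H74.H0Card.finite_and_finrank k (Z := C')).2
  have f3 : Nat.card (_root_.ConnectedComponents C) = 1 := by
    rw [Nat.card_eq_one_iff_unique]
    exact ⟨inferInstance, inferInstance⟩
  rw [f3] at f1
  rw [e1, e2, f1, f2] at E
  unfold Curv2.genus
  push_cast at E ⊢
  linarith

end K316.GenusNode
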