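import Groth.Agent.GIT.K339.SmLim
import Groth.Agent.CurvSt.K316.MbarAlg
import Groth.Agent.CurvSt.K898.SepMbar
import Groth.Agent.CurvSt.K898.StdCurves
import Groth.Agent.CurvSt.K898.QCAny
import Groth.Agent.CurvSt.K898.QCOpen

/-!
# The stack of smooth curves: finite diagonal over every base

* `std_mgn` : `Mgn S g n` is algebraic, locally of finite type, with separated quasi-compact diagonal.
* `finite_diag`, `isSeparatedOver`, `isAffine_diag` : for `n = 0`, `2 ≤ g` and every base.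
-/

set_option autoImplicit false
set_option backward.isDefEq.respectTransparency false
set_option backward.isDefEq.respectTransparency.types false

universe u

open CategoryTheory CategoryTheory.Limits AlgebraicGeometry CurvSt

namespace K316.MgnFinal

theorem hasOpenLocus_smooth (S : Scheme.{u}) (g n : ℕ) :
    K899.OpenCrit.HasOpenLocus (𝒳 := Curves S n) (fun A => K898.MbarEq.SpIsSmoothPtd A.obj g) := fun A => by
  obtain ⟨U, hU⟩ := K316.MbarAlg.openLocus_smooth S g n A
  exact ⟨U, fun B φ => hU B φ⟩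

theorem std_mgn (S : Scheme.{u}) {g n : ℕ} (hg : 3 ≤ 2 * g + n) : K738.OSub.Std (Mgn S g n) := by
  have h := (K898.StdCurves.std S n).sub (hasOpenLocus_smooth S g n)
  have he := K316.MbarAlg.isEquivOver_mgn S hg
  exact
    { alg := K316.MbarAlg.isAlgStack_mgn S hg
      sep := (K740.Inv.repByAlgSpWith_diagSelf_iff _ he).2 h.sep
      qc := (K740.Inv.repByAlgSpWith_diagSelf_iff _ he).2 h.qc
      lft := (K738.Sep.locQ_toSelf_iff he).2 h.lft }

theorem isSeparatedOver_noeth (S : Scheme.{u}) [IsLocallyNoetherian S] {g : ℕ} (hg : 2 ≤ g) :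
    AlgSt.IsSeparatedOver (Mgn S g 0) := by
  have h := std_mgn S (g := g) (n := 0) (by omega)
  exact K738.Sep.isSeparatedOver_any h.alg h.sep h.qc h.lft (K339.SmLim.uniqLim_mgn S (by omega))

theorem openCond (g n : ℕ) : K898.QCParam.OpenCond (K898.QCFinal.PSm.{u} g n) :=
  K898.QCOpen.openCond_smooth g fun S => K316.MbarAlg.openLocus_smooth S g n

/-- **The diagonal of the stack of smooth curves is finite, over any base.** -/
theorem finite_diag (S : Scheme.{u}) {g : ℕ} (hg : 2 ≤ g) :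
    AlgSt.RepByAlgSpWith AlgSp.IsFiniteMor (FibCat.diag (FibCat.toSelf (Mgn S g 0))) :=
  K898.SepMbar.finite_diag_mgn (openCond g 0) (fun S => K316.MbarAlg.isDMOver_mgn S (by omega))
    (fun T _ => isSeparatedOver_noeth T hg) S

/-- **The stack of smooth curves is separated, over any base.** -/
theorem isSeparatedOver (S : Scheme.{u}) {g : ℕ} (hg : 2 ≤ g) : AlgSt.IsSeparatedOver (Mgn S g 0) :=
  K898.SepMbar.isSeparatedOver_mgn (openCond g 0) (fun S => K316.MbarAlg.isDMOver_mgn S (by omega))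
    (fun T _ => isSeparatedOver_noeth T hg) S

theorem isAffine_diag (S : Scheme.{u}) {g : ℕ} (hg : 2 ≤ g) :
    AlgSt.RepByAlgSpWith AlgSp.IsAffineMor (FibCat.diag (FibCat.toSelf (Mgn S g 0))) :=
  K898.SepMbar.isAffine_diag_mgn (openCond g 0) (fun S => K316.MbarAlg.isDMOver_mgn S (by omega))
    (fun T _ => isSeparatedOver_noeth T hg) S

theorem isQuasiCompactMor (S : Scheme.{u}) {g n : ℕ} (hg : 3 ≤ 2 * g + n) :
    AlgSt.IsQuasiCompactMor Scheme.etalePrecoverage (FibCat.toSelf (Mgn S g n)) :=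
  K898.QCAny.isQuasiCompactMor_etale
    (K898.QCFinal.isQuasiCompactMor_mgn S g n hg (K316.MbarAlg.isAlgStack_mgn S hg) (openCond g n))

/-- S16820 -/
theorem main (S : Scheme.{u}) (g : ℕ) (hg : 2 ≤ g) :
    AlgSt.HasAtlas AlgSp.IsEtaleMor (CurvSt.Mgn S g 0) ∧
      AlgSt.RepByAlgSpWith AlgSp.IsAffineMor (FibCat.diag (FibCat.toSelf (CurvSt.Mgn S g 0))) ∧
      AlgSt.LocQ (AlgSp.LocP @LocallyOfFiniteType) (FibCat.toSelf (CurvSt.Mgn S g 0)) ∧
      AlgSt.IsQuasiCompactMor Scheme.etalePrecoverage (FibCat.toSelf (CurvSt.Mgn S g 0)) ∧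
      ∀ (Ω : Type u) [Field Ω] [IsAlgClosed Ω] (t : Spec (CommRingCat.of Ω) ⟶ S),
        Nonempty ((CurvSt.Mgn S g 0).p.Fiber (Over.mk t)) :=
  ⟨(K316.MbarAlg.isDM_mgn S (by omega)).2, isAffine_diag S hg, (std_mgn S (by omega)).lft,
    isQuasiCompactMor S (by omega), fun _ _ _ t => K310.ExistsCurve.nonempty_Mgn_fiber t g 0⟩

end K316.MgnFinal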