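import Groth.Agent.CurvSt.K898.SchStk

/-!
# Descent of representability when relatively ample modules exist over affine bases

Variant of `K898.RelDesc` / `K898.SchStk`: relatively ample modules are only needed over AFFINE test schemes, since the
descent only uses Zariski gluing and descent along finite locally free covers of affine schemes.

* `exists_open_of_etale`, `exists_rep_of_etale_local`, `exists_iso_yon_of_local`
* `exists_iso_toSpFam`, `Match`, `comp`, `isEquivOver_comp`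
-/

set_option autoImplicit false
set_option backward.isDefEq.respectTransparency false
set_option backward.isDefEq.respectTransparency.types false
universe u
open CategoryTheory CategoryTheory.Limits AlgebraicGeometry Opposite
open _root_.Desc Groth.Agent.Desc.SecFunctor Groth.Agent.Desc.SecPresheaf
  Groth.Agent.Desc.SecDescent Groth.Agent.Picfga.OverRep Groth.Agent.Desc.ZarGlue

namespace K316.RelDescA

open K898.RelDesc

/-- Every representable base change of `F` over an affine scheme carries a relatively ample invertible module. -/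
def AmpleAff {S : Scheme.{u}} (F : (Over S)ᵒᵖ ⥤ Type u) : Prop :=
  ∀ ⦃T : Scheme.{u}⦄ [IsAffine T] (t : T ⟶ S) (E : Over T), Nonempty ((restr t F).RepresentableBy E) →
    ∃ L : E.left.Modules, RelAmple.IsRelAmple E.hom L

variable {S : Scheme.{u}} {F : (Over S)ᵒᵖ ⥤ Type u}

/-- Descent along a finite locally free cover with affine source. -/
theorem repOn_of_finite (hF : FppfDesc F) (hL : AmpleAff F) {T V : Scheme.{u}} (t : T ⟶ S) (p : V ⟶ T)
    [Surjective p] [IsFinite p] [Flat p] [LocallyOfFinitePresentation p] [IsAffine V] {r : V ⟶ S} (hr : p ≫ t = r)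
    (h : RepOn F r) : RepOn F t := by
  obtain ⟨E, ⟨e⟩⟩ := h
  obtain ⟨L, hLE⟩ := hL r E ⟨e⟩
  let e' : (restr p (restr t F)).RepresentableBy E := e.ofIso (restrCompIso hr F).symm
  obtain ⟨U, ⟨i⟩⟩ := Groth.Agent.S7521.result p (ofPresheaf e') L hLE
  have := Groth.Agent.S1131.result p
  have := Groth.Agent.S1132.result p
  exact ⟨U, ⟨representableByOfEffective e' (isPSheaf_restr hF t p) i⟩⟩

/-- etale local representability implies Zariski local representability. -/
theorem exists_open_of_etale (hZ : IsZarSheaf F) (hF : FppfDesc F) (hL : AmpleAff F) {Y U : Scheme.{u}} (y : Y ⟶ S)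
    (e : U ⟶ Y) [Etale e] (u : U) (h : RepOn F (e ≫ y)) : ∃ W : Y.Opens, e u ∈ W ∧ RepOn F (W.ι ≫ y) := by
  obtain ⟨V, T, π, hV, hVa, h1, h2, h3, h4, H⟩ := Groth.Agent.S1390.result e u (e u) rfl
  -- the open subset of `T` over which there are local maps to `U`
  let O : T.Opens := ⨆ x : {W : T.Opens // ∃ k : (W : Scheme.{u}) ⟶ U, k ≫ e = W.ι ≫ π ≫ V.ι}, x.1
  have hO : ∀ x : T, V.ι (π x) = e u → x ∈ O := by
    intro x hx
    obtain ⟨W, k, hxW, hk, -⟩ := H x hx
    exact TopologicalSpace.Opens.mem_iSup.2 ⟨⟨W, k, hk⟩, hxW⟩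
  -- shrink `V`
  have hcl : IsClosed (π '' ((O : Set T)ᶜ)) := π.isClosedMap _ O.isOpen.isClosed_compl
  let V₀ : (V : Scheme.{u}).Opens := ⟨(π '' ((O : Set T)ᶜ))ᶜ, hcl.isOpen_compl⟩
  have hV₀ : (⟨e u, hV⟩ : V) ∈ V₀ := by
    rintro ⟨x, hx, hx'⟩
    apply hx
    apply hO
    rw [hx']
    rfl
  have hpre : ∀ x : T, π x ∈ V₀ → x ∈ O := by
    intro x hx
    by_contra hc
    exact hx ⟨x, hc, rfl⟩
  obtain ⟨V₁, hV₁aff, hV₁, hV₁le⟩ : ∃ V₁ : (V : Scheme.{u}).Opens, IsAffineOpen V₁ ∧ (⟨e u, hV⟩ : V) ∈ V₁ ∧ V₁ ≤ V₀ := by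
    obtain ⟨V₁, h1, h2, h3⟩ := (TopologicalSpace.Opens.isBasis_iff_nbhd.1 (V : Scheme.{u}).isBasis_affineOpens) hV₀
    exact ⟨V₁, h1, h2, h3⟩
  let W : Y.Opens := V.ι ''ᵁ V₁
  have hW : e u ∈ W := ⟨⟨e u, hV⟩, hV₁, rfl⟩
  refine ⟨W, hW, ?_⟩
  -- representable over the preimage of `V₁` in `T`
  let T₁ : T.Opens := π ⁻¹ᵁ V₁
  have hT₁ : RepOn F (T₁.ι ≫ π ≫ V.ι ≫ y) := by
    apply repOn_of_cover hZ
    intro x
    have hx : T₁.ι x ∈ O := hpre _ (hV₁le x.2)
    obtain ⟨⟨W', k, hk⟩, hxW⟩ := TopologicalSpace.Opens.mem_iSup.1 hx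
    refine ⟨T₁.ι ⁻¹ᵁ W', hxW, ?_⟩
    obtain ⟨q, hq⟩ := exists_lift_open ((T₁.ι ⁻¹ᵁ W').ι ≫ T₁.ι) W' (fun z => z.2)
    refine h.comp (q ≫ k) ?_
    rw [Category.assoc, reassoc_of% hk, reassoc_of% hq]
  have hfin : RepOn F (V₁.ι ≫ V.ι ≫ y) := by
    have i1 : Surjective (π ∣_ V₁) := IsZariskiLocalAtTarget.restrict (P := @Surjective) h1 V₁
    have i2 : IsFinite (π ∣_ V₁) := inferInstance
    have i3 : Flat (π ∣_ V₁) := inferInstance
    have i4 : LocallyOfFinitePresentation (π ∣_ V₁) := inferInstance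
    have i5 : IsAffine (T₁ : Scheme.{u}) := hV₁aff.preimage π
    refine repOn_of_finite hF hL _ (π ∣_ V₁) ?_ hT₁
    rw [← Category.assoc, morphismRestrict_ι, Category.assoc]
  -- transport to `W`
  have hiso : ∃ j : (W : Scheme.{u}) ⟶ V₁, j ≫ V₁.ι ≫ V.ι = W.ι := by
    obtain ⟨a, ha⟩ := exists_lift_open W.ι V (by rintro ⟨_, ⟨z, hz, rfl⟩⟩; exact z.2)
    obtain ⟨b, hb⟩ := exists_lift_open a V₁ (by
      intro x
      obtain ⟨z, hz, hzx⟩ := x.2
      have : a x = z := by
        apply V.ι.injective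
        rw [← Scheme.Hom.comp_apply, ha]
        exact hzx.symm
      rw [this]
      exact hz)
    exact ⟨b, by rw [← Category.assoc, hb, ha]⟩
  obtain ⟨j, hj⟩ := hiso
  refine hfin.comp j ?_
  rw [← hj]
  simp only [Category.assoc]

/-- etale local representability implies representability. -/
theorem exists_rep_of_etale_local (hZ : IsZarSheaf F) (hF : FppfDesc F) (hL : AmpleAff F)
    (H : ∀ s : S, ∃ (T : Scheme.{u}) (q : T ⟶ S) (_ : Etale q) (t : T),
      q t = s ∧ RepOn F q) : ∃ E : Over S, Nonempty (F.RepresentableBy E) := by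
  have key : RepOn F (𝟙 S) := by
    apply repOn_of_cover hZ
    intro s
    obtain ⟨T, q, h1, t, rfl, h3⟩ := H s
    exact exists_open_of_etale hZ hF hL (𝟙 S) q t (by rwa [Category.comp_id])
  obtain ⟨E, ⟨e⟩⟩ := key
  exact ⟨E, ⟨e.ofIso (NatIso.ofComponents (fun Y => F.mapIso (Over.isoMk (Iso.refl _) (by simp) :
    Y.unop ≅ (Over.map (𝟙 S)).obj Y.unop).op) (by
      intro Y Y' f
      simp only [Functor.comp_map, Functor.op_map, Functor.mapIso_hom, Iso.op_hom, ← F.map_comp,
        ← op_comp]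
      congr 2))⟩⟩

section sheaves

open AlgSp K594.Elem K594.Cover K594.FibSh

variable {G' G : Sp S} {f : G' ⟶ G} {U : Over S} {y : G.obj.obj (op U)}

/-- A family of etale test objects over which the pullback of `f` along `y` is represented, jointly surjective. -/
def LocRepEt (f : G' ⟶ G) (y : G.obj.obj (op U)) : Prop :=
  ∀ s : U.left, ∃ (T : Over S) (r : T ⟶ U) (_ : Etale r.left) (t : T.left),
    r.left t = s ∧ ∃ (V : Over S) (v : V ⟶ T) (ξ : G'.obj.obj (op V)), IsRep f (G.obj.map r.op y) v ξ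

theorem LocRepEt.locRep (H : LocRepEt f y) : LocRep f y := by
  intro s
  obtain ⟨T, r, h1, t, h2, h3⟩ := H s
  exact ⟨T, r, inferInstance, inferInstance, t, h2, h3⟩

/-- etale descent of representability for a map of fppf sheaves all of whose representable base changes to affine
schemes carry relatively ample invertible modules. -/
theorem exists_isRep_of_locRep (H : LocRepEt f y)
    (hL : ∀ {T V : Over S} [IsAffine T.left] (r : T ⟶ U) (v : V ⟶ T) (ξ : G'.obj.obj (op V)),
      IsRep f (G.obj.map r.op y) v ξ → ∃ L : V.left.Modules, RelAmple.IsRelAmple v.left L) :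
    ∃ (V : Over S) (v : V ⟶ U) (ξ : G'.obj.obj (op V)), IsRep f y v ξ := by
  have := small_fib H.locRep
  have h1 : AmpleAff (sfib f y) := by
    rintro T hT t E ⟨e⟩
    obtain ⟨ξ, hξ⟩ := isRep_of_rep_restr t e
    have hT' : IsAffine (Over.mk (t ≫ U.hom) : Over S).left := hT
    exact hL _ _ ξ hξ
  obtain ⟨E, ⟨hE⟩⟩ := exists_rep_of_etale_local (isZarSheaf_sfib f y)
    (fun {T' T} g g1 g2 g3 => isDesc_sfib f y g ⟨g1, g2, g3⟩) h1 (by
      intro s
      obtain ⟨T, r, g1, t, ht, V, v, ξ, hξ⟩ := H s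
      exact ⟨T.left, r.left, g1, t, ht, repOn_sfib r hξ⟩)
  obtain ⟨ξ', hξ'⟩ := isRep_of_rep hE
  exact ⟨_, _, ξ', hξ'⟩

/-- The same in terms of cartesian squares over a representable base. -/
theorem exists_iso_yon_of_local {X : Sp S} {T : Over S} (f : X ⟶ (yon S).obj T)
    (H : ∀ s : T.left, ∃ (T' : Over S) (r : T' ⟶ T) (_ : Etale r.left) (t : T'.left),
      r.left t = s ∧ ∃ (V : Over S) (v : V ⟶ T') (j : (yon S).obj V ⟶ X), IsPullback j ((yon S).map v) f ((yon S).map r))
    (hL : ∀ {T' V : Over S} [IsAffine T'.left] (r : T' ⟶ T) (v : V ⟶ T') (j : (yon S).obj V ⟶ X),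
      IsPullback j ((yon S).map v) f ((yon S).map r) → ∃ L : V.left.Modules, RelAmple.IsRelAmple v.left L) :
    ∃ (V : Over S) (v : V ⟶ T) (e : (yon S).obj V ≅ X), e.hom ≫ f = (yon S).map v := by
  let y : ((yon S).obj T).obj.obj (op T) := secEquiv (𝟙 _)
  have hy : ∀ {T' : Over S} (r : T' ⟶ T), secEquiv.symm (((yon S).obj T).obj.map r.op y) = (yon S).map r := by
    intro T' r
    apply secEquiv.injective
    rw [Equiv.apply_symm_apply]
    have h1 := yonEquiv_apply (𝟙 ((yon S).obj T)) r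
    rw [← h1]
    have h2 := yonEquiv_apply ((yon S).map r) (𝟙 T')
    rw [op_id, ((yon S).obj T).obj.map_id] at h2
    refine Eq.trans ?_ h2
    change (⟨r⟩ : ULift (T' ⟶ T)) = ⟨𝟙 T' ≫ r⟩
    rw [Category.id_comp]
  have hy0 : secEquiv.symm y = 𝟙 _ := Equiv.symm_apply_apply _ _
  obtain ⟨V, v, ξ, hξ⟩ := exists_isRep_of_locRep (f := f) (y := y) (by
      intro s
      obtain ⟨T', r, h1, t, ht, V, v, j, hj⟩ := H s
      refine ⟨T', r, h1, t, ht, V, v, secEquiv j, ?_⟩
      rw [← isRep_iff_isPullback, hy, Equiv.symm_apply_apply]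
      exact hj) (by
      intro T' V _ r v ξ hξ
      rw [← isRep_iff_isPullback, hy] at hξ
      exact hL r v _ hξ)
  rw [← isRep_iff_isPullback, hy0] at hξ
  have : IsIso (secEquiv.symm ξ) := hξ.isIso_fst_of_isIso
  refine ⟨V, v, asIso (secEquiv.symm ξ), ?_⟩
  rw [asIso_hom, hξ.w, Category.comp_id]

end sheaves

/-! ### families -/

section families

open AlgSp CurvSt K898.SchStk

variable {n : ℕ}

/-- A family of sheaves which is etale locally on the base a scheme and whose base changes to affine schemes with scheme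
total space carry relatively ample invertible modules is a family of schemes. -/
theorem exists_iso_toSpFam (A : SpFamObj S n) (hE : K901.EtSch.EtLocSch A)
    (hL : ∀ (B : PtFamObj S n) (_ : (toSpFam S n).obj B ⟶ A), IsAffine B.base.left →
      ∃ L : B.C.Modules, RelAmple.IsRelAmple B.f L) :
    ∃ (B : PtFamObj S n) (e : (toSpFam S n).obj B ≅ A), (SpFam S n).p.IsHomLift (𝟙 A.base) e.hom := by
  obtain ⟨V, v, e, he⟩ := exists_iso_yon_of_local A.f (by
      intro s
      obtain ⟨T', g, w, X', q, j, hg, hw, sq⟩ := hE s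
      exact ⟨A.ptOver g, A.ptHom g, hg, w, hw, A.ptOver (q ≫ g), A.fibHom g q, j, sq⟩) (by
      intro T' V hT' r v j sq
      exact hL (sqFam sq) (sqFamHom sq) hT')
  have sq : IsPullback e.hom ((yon S).map v) A.f ((yon S).map (𝟙 A.base)) := by
    rw [CategoryTheory.Functor.map_id]
    exact IsPullback.of_horiz_isIso ⟨by rw [he, Category.comp_id]⟩
  have h1 : IsIso (sqFamHom sq).base := by
    change IsIso (𝟙 A.base)
    infer_instance
  have h2 := isIso_of (sqFamHom sq)
  refine ⟨sqFam sq, asIso (sqFamHom sq), ?_⟩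
  refine IsHomLift.of_fac _ _ _ rfl rfl ?_
  change 𝟙 A.base = 𝟙 _ ≫ 𝟙 A.base ≫ 𝟙 _
  simp

variable (𝒬 : PtFamObj S n → Prop) (Q : (Curves S n).obj → Prop)

/-- Hypotheses on a condition `𝒬` on families of schemes and a condition `Q` on families of curves: they correspond to each
other, `Q` is stable under base change, and families with `𝒬` over affine bases carry relatively ample modules. -/
structure Match : Prop where
  isCurveFam : ∀ B, 𝒬 B → IsCurveFam ((toSpFam S n).obj B)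
  toQ : ∀ (B) (h : 𝒬 B), Q ⟨(toSpFam S n).obj B, isCurveFam B h⟩
  ofQ : ∀ (B) (hc : IsCurveFam ((toSpFam S n).obj B)), Q ⟨(toSpFam S n).obj B, hc⟩ → 𝒬 B
  stable : ∀ ⦃A B : (Curves S n).obj⦄ (_ : A ⟶ B), Q B → Q A
  ample : ∀ B, 𝒬 B → IsAffine B.base.left → ∃ L : B.C.Modules, RelAmple.IsRelAmple B.f L

variable {𝒬 Q}

/-- The comparison functor. -/
noncomputable def comp (h : Match 𝒬 Q) : AlgSt.fullSub (PtFam S n) 𝒬 ⥤ᵇ AlgSt.fullSub (Curves S n) Q :=
  K901.SubStack.liftFun (K901.SubStack.liftFun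
    (BasedFunctor.comp (AlgSt.subIncl (PtFam S n) 𝒬) (toSpFam S n)) (fun B => h.isCurveFam B.obj B.property))
    (fun B => h.toQ B.obj B.property)

instance (h : Match 𝒬 Q) : (comp h).toFunctor.Faithful := by
  refine ⟨fun {A B} f g hfg => ?_⟩
  apply ObjectProperty.hom_ext
  apply (toSpFam S n).toFunctor.map_injective
  exact congrArg (fun (t : (comp h).obj A ⟶ (comp h).obj B) => t.hom.hom) hfg

instance (h : Match 𝒬 Q) : (comp h).toFunctor.Full := by
  refine ⟨fun {A B} f => ?_⟩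
  obtain ⟨g, hg⟩ := (toSpFam S n).toFunctor.map_surjective f.hom.hom
  refine ⟨ObjectProperty.homMk g, ?_⟩
  apply ObjectProperty.hom_ext
  apply ObjectProperty.hom_ext
  exact hg

theorem isEquivOver_comp (h : Match 𝒬 Q) (hE : ∀ A : (Curves S n).obj, K901.EtSch.EtLocSch A.obj)
    (hfib : ∀ ⦃A B : SpFamObj S n⦄ (_ : A ⟶ B), IsCurveFam B → IsCurveFam A) :
    FibCat.IsEquivOver (comp h) := by
  refine K899.EquivOver.isEquivOver_of_fullyFaithful (comp h) inferInstance inferInstance fun y => ?_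
  obtain ⟨B, e, he⟩ := exists_iso_toSpFam y.obj.obj (hE y.obj) (by
    intro B φ
    have hB : IsCurveFam ((toSpFam S n).obj B) := hfib φ y.obj.property
    have hQ : Q ⟨(toSpFam S n).obj B, hB⟩ := h.stable (ObjectProperty.homMk φ) y.property
    exact h.ample B (h.ofQ B hB hQ))
  have hB : IsCurveFam ((toSpFam S n).obj B) := hfib e.hom y.obj.property
  let e' : (⟨(toSpFam S n).obj B, hB⟩ : (Curves S n).obj) ≅ y.obj :=
    ObjectProperty.isoMk _ e
  have hQ : Q ⟨(toSpFam S n).obj B, hB⟩ := h.stable e'.hom y.property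
  have hB' : 𝒬 B := h.ofQ B hB hQ
  refine ⟨⟨B, hB'⟩, ObjectProperty.isoMk _ e', ?_⟩
  have he' : (SpFam S n).p.IsHomLift (𝟙 y.obj.obj.base) e.hom := he
  exact IsHomLift.of_fac _ _ _ (IsHomLift.domain_eq (SpFam S n).p (𝟙 y.obj.obj.base) e.hom) rfl
    (IsHomLift.fac (SpFam S n).p (𝟙 y.obj.obj.base) e.hom)

end families

end K316.RelDescA
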